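import Cfsg.Agent.TAB.B.DG.K0_m3
import Cfsg.Agent.TAB.B.D.WA_m3
import Cfsg.Agent.TAB.B.C2.R1_m3
import Cfsg.Agent.TAB.B.Fin.St2_m3
import Cfsg.Agent.BMx.Loc5
import Cfsg.Agent.BM.KHAll
import Cfsg.Agent.Lib.FinFast
import Cfsg.Agent.TAB.B.D.WD_m3
import Cfsg.Agent.Lib.Refl
import Cfsg.Agent.TAB.B.Fin.Cols_m3
import Cfsg.Agent.BMx.Fast
import Cfsg.Agent.FastGrp
import Cfsg.Agent.Prune
set_option linter.all false

section
prune_inst 0x7ffebdfbaff8bbffffff7e7fffffdffdf9b9ffffefdff9fbffed7bff3fff7b6fcbc5fbafefec90fedef6e21410f87b53fbffffffe26bfc7ffffd5ff45ffbffdfffffbd0c519ebcb41ffe6ffffbf07fae7f3fffffffffffffffffffffffffffffffffffffffff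

-- part: TAB/B/DG/T0
section
set_option linter.all false

/-!
# The runs with tags (helper62, TAB)
-/

set_option autoImplicit false
set_option maxHeartbeats 8000000
set_option maxRecDepth 100000

namespace Cfsg.Agent.TAB.B.DG

open Cfsg.Agent.TAB.B.C2
open Cfsg.Agent.BabyM.KTab (fld)

/-- keys -/
def s2 : List ℕ := [9225324881202416640, 4613498116694637583, 4613638871367056423, 9225324864026741760, 9225324898378091520, 4613779626039507968, 4613920311975672832, 4614061032296741888, 4613638905718438912, 4614061100999441408, 4613638837015739392, 4614342507256675328, 79555507030017506304, 4615609161869491200, 154494138037444344832, 79554240375404690432, 23062353372984441856, 41509097446693993472]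

/-- rows -/
def TT2 : List (Row × ℕ) := [((T2.getD 0 r0).1, 2097152), ((T2.getD 1 r0).1, 1474560), ((T2.getD 2 r0).1, 1474560), ((T2.getD 3 r0).1, 1048576), ((T2.getD 4 r0).1, 1048576), ((T2.getD 5 r0).1, 368640), ((T2.getD 6 r0).1, 368640), ((T2.getD 7 r0).1, 122880), ((T2.getD 8 r0).1, 122880), ((T2.getD 9 r0).1, 122880), ((T2.getD 10 r0).1, 122880), ((T2.getD 11 r0).1, 4096), ((T2.getD 12 r0).1, 4096), ((T2.getD 13 r0).1, 2048), ((T2.getD 14 r0).1, 2048), ((T2.getD 15 r0).1, 2048), ((T2.getD 16 r0).1, 1024), ((T2.getD 17 r0).1, 1024)]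

/-- tags -/
def tags2 : List ℕ := [0, 15, 39, 0, 0, 0, 0, 0, 0, 0, 0, 0, 0, 0, 0, 0, 0, 0]

theorem okT2 : clsT { c2 with SL := s2 } (fld TG2 8 255) TT2 tags2 = true := by decide +kernel

/-- keys -/
def s3 : List ℕ := [4620253722344487936, 4620112967672036391, 4620816603561655296, 4620675986361711751, 4619831527063485440, 4620394408280652800, 4621520445660003328, 79561981126322486272, 154500190007171021824, 4623771970528672768, 98015480874418109440, 116462224948127661056]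

/-- rows -/
def TT3 : List (Row × ℕ) := [((T3.getD 0 r0).1, 3440640), ((T3.getD 1 r0).1, 3440640), ((T3.getD 2 r0).1, 491520), ((T3.getD 3 r0).1, 491520), ((T3.getD 4 r0).1, 215040), ((T3.getD 5 r0).1, 215040), ((T3.getD 6 r0).1, 53760), ((T3.getD 7 r0).1, 17920), ((T3.getD 8 r0).1, 14336), ((T3.getD 9 r0).1, 7680), ((T3.getD 10 r0).1, 256), ((T3.getD 11 r0).1, 256)]

/-- tags -/
def tags3 : List ℕ := [0, 39, 0, 135, 0, 0, 0, 0, 0, 0, 0, 0]

theorem okT3 : clsT { c3 with SL := s3 } (fld TG3 8 255) TT3 tags3 = true := by decide +kernel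

end Cfsg.Agent.TAB.B.DG
end

-- part: TAB/B/DG/Main
section
set_option linter.all false
open scoped Cfsg.Agent.FastGrp

/-!
# The boxes of the 20 types of the Baby Monster with an involution 2D which fix a point (helper62, TAB)
-/

set_option autoImplicit false
set_option maxHeartbeats 400000
set_option maxRecDepth 100000
set_option linter.unusedSectionVars false

namespace Cfsg.Agent.TAB.B.DG

open Cfsg Cfsg.Agent.TAB.B.Geo
open Cfsg.Agent.H633.Ore.Co2 (wd)
open Cfsg.Agent.TAB.B.C2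
open Cfsg.Agent.BabyM Cfsg.Agent.BabyM.Conc Cfsg.Agent.BabyM.KTab

theorem tyB_inv {i : ℕ} {x : BG} (h : TyB i x) : TyB i x⁻¹ := by
  refine ⟨(orderOf_inv x).trans h.1, fun p hp => ?_⟩
  have h1 := orderOf_pos (x ^ p.1)
  have h2 : (x ^ p.1) ^ (orderOf (x ^ p.1) - 1) = x⁻¹ ^ p.1 := by
    rw [inv_pow]
    refine eq_inv_of_mul_eq_one_left ?_
    rw [← pow_succ, Nat.sub_add_cancel h1, pow_orderOf_eq_one]
  rw [← h2]
  exact key.gal _ _ _ (by rw [Nat.coprime_self_sub_left h1]; exact Nat.coprime_one_left _) (h.2 p hp)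

theorem xu_inv {v y : BG} (h : XU v y) : XU v⁻¹ y := by
  obtain ⟨k, h1, h2⟩ := h
  refine ⟨k, h1, ?_⟩
  have h3 := h2.inv
  rwa [show (k⁻¹ * v * k)⁻¹ = k⁻¹ * v⁻¹ * k by group] at h3

theorem fx_inv (m : ℕ) (x : BG) : fx m x⁻¹ ≤ fx m x := by
  refine card_mono fun y hy => ⟨?_, ?_⟩
  · have h := xu_inv hy.1
    rwa [inv_pow, inv_inv] at h
  · exact (Commute.inv_left_iff.1 hy.2 : Commute x y)

theorem Phi.conj {i m w : ℕ} (g k : C) (h : Phi i m w g) : Phi i m w (k * g * k⁻¹) := by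
  unfold Phi
  rw [map_mul, map_mul, map_inv, fx_conj, conj_pow]
  exact ⟨h.1.conj _, h.2.1.conj (inc_comm k), h.2.2⟩

theorem Phi.inv {i m w : ℕ} (g : C) (h : Phi i m w g) : Phi i m w g⁻¹ := by
  unfold Phi
  rw [map_inv, inv_pow]
  exact ⟨tyB_inv h.1, h.2.1.inv, (fx_inv m _).trans h.2.2⟩

/-- the row has the signature -/
def selS (s : ℕ × List (ℕ × ℤ)) (r : Row) : Bool :=
  decide (r.1 = s.1) && s.2.all fun p => r.2.2.1.any fun q => decide (q.1 = p.1) && decide (q.2.1 + q.2.2.1 + q.2.2.2 = p.2)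

theorem ty_of_row {i o : ℕ} {l : List (ℕ × ℤ)} (hs : Eng.sg dat val i = (o, l)) {g : C} {r : Row} (h : Has g r)
    (hr : selS (o, l) r = true) : TyB i (inc g) := by
  simp only [selS, Bool.and_eq_true, decide_eq_true_eq, List.all_eq_true, List.any_eq_true] at hr
  refine (tyB_iff hs _).2 ⟨(orderOf_injective inc (Subgroup.inclusion_injective _) g).trans (h.1.trans hr.1), fun p hp => ?_⟩
  obtain ⟨q, hq, h1, h2⟩ := hr.2 p hp
  obtain ⟨h3, h4, h5⟩ := h.2.2.1 q hq
  have h6 := trace_split Cd (g ^ q.1).1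
  rw [h3, h4, show tp Cd.isq (g ^ q.1).1 = _ from h5] at h6
  rw [← h1, ← h2, ← map_pow]
  push_cast
  exact h6

theorem cls_le {c : Cs} {TG : ℕ} {T : List (Row × ℕ)} {tags W B : List ℕ} {i m j : ℕ} {l : List (ℕ × ℤ)} (w n : ℕ)
    (h : clsT c (fld TG 8 255) T tags = true) (ht : Tag W m B TG) (hs : Eng.sg dat val i = (m + m, l))
    (hk : (c.w = W ∧ c.bs = B ∧ (dd j).w = W ∧ (m, 19) ∈ l) ∧
      n ≤ totT (fun r t => selS (m + m, l) r && decide (t ≠ 0) && decide (t ≤ w)) T tags) :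
    n ≤ Nat.card {g : C // pr2 g = wd (dd j).w ∧ Phi i m w g} := by
  have := finite_C
  obtain ⟨⟨e1, e2, e3, hl⟩, hn⟩ := hk
  have h1 := (clsT_spec h).1
  rw [e1, e2] at h1
  rw [e3]
  refine hn.trans ((h1 _).trans (card_mono fun g hg => ⟨hg.1, ?_⟩))
  obtain ⟨hg, r, α, e, hα, he, h2, h3⟩ := hg
  rw [Nat.mod_eq_of_lt (show fld TG 8 255 e < 256 from Nat.lt_succ_of_le Nat.and_le_right)] at h2
  simp only [Bool.and_eq_true, decide_eq_true_eq] at h2
  have h4 := ty_of_row hs h3 h2.1.1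
  have h5 := ty_inv hs hl h4
  have h6 := ht g α e (inc g) hg hα he rfl h5.1 h5.2 h2.1.2
  exact ⟨h4, h6.1, h6.2.trans h2.2⟩

theorem box_list {i : ℕ} (m w : ℕ) (L : List (ℕ × ℕ))
    (h : ∀ p ∈ L, p.2 ≤ Nat.card {g : C // pr2 g = wd (dd p.1).w ∧ Phi i m w g})
    (hc : 0 < w ∧ dat.cnt i * w ≤ 11707448673375 * ∑ j ∈ Finset.range 56, (dd j).q * (L.lookup j).getD 0) : BoxB i := by
  refine box_of' (m := m) hc.1 hc.2 (dist Phi.conj Phi.inv _ fun j _ => ?_)
  cases hj : L.lookup j with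
  | none => exact Nat.zero_le _
  | some n =>
    obtain ⟨l₁, l₂, rfl, -⟩ := List.lookup_eq_some_iff.1 hj
    exact h (j, n) (List.mem_append_right _ List.mem_cons_self)

theorem box_4E : BoxB 11 := box_list 2 135 [(3, 491520)]
  (List.forall_mem_cons.2 ⟨cls_le 135 491520 okT3 tag3 sg_4E (by decide +kernel),
    fun _ h => absurd h List.not_mem_nil⟩) (by decide +kernel)

theorem box_4H : BoxB 14 := box_list 2 39 [(2, 1474560), (3, 3440640)]
  (List.forall_mem_cons.2 ⟨cls_le 39 1474560 okT2 tag2 sg_4H (by decide +kernel),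
    List.forall_mem_cons.2 ⟨cls_le 39 3440640 okT3 tag3 sg_4H (by decide +kernel),
    fun _ h => absurd h List.not_mem_nil⟩⟩) (by decide +kernel)

theorem box_4J : BoxB 16 := box_list 2 15 [(2, 1474560)]
  (List.forall_mem_cons.2 ⟨cls_le 15 1474560 okT2 tag2 sg_4J (by decide +kernel),
    fun _ h => absurd h List.not_mem_nil⟩) (by decide +kernel)

theorem box_6E : BoxB 23 := box_list 3 27 [(5, 1769472)]
  (List.forall_mem_cons.2 ⟨cls_le 27 1769472 okT5 tag5 sg_6E (by decide +kernel),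
    fun _ h => absurd h List.not_mem_nil⟩) (by decide +kernel)

theorem box_6H : BoxB 26 := box_list 3 9 [(5, 1105920)]
  (List.forall_mem_cons.2 ⟨cls_le 9 1105920 okT5 tag5 sg_6H (by decide +kernel),
    fun _ h => absurd h List.not_mem_nil⟩) (by decide +kernel)

theorem box_8G : BoxB 37 := box_list 4 15 [(9, 524288)]
  (List.forall_mem_cons.2 ⟨cls_le 15 524288 okT9 tag9 sg_8G (by decide +kernel),
    fun _ h => absurd h List.not_mem_nil⟩) (by decide +kernel)

theorem box_8J : BoxB 40 := box_list 4 3 [(10, 1572864)]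
  (List.forall_mem_cons.2 ⟨cls_le 3 1572864 okT10 tag10 sg_8J (by decide +kernel),
    fun _ h => absurd h List.not_mem_nil⟩) (by decide +kernel)

theorem box_8K : BoxB 41 := box_list 4 7 [(9, 524288), (10, 3145728)]
  (List.forall_mem_cons.2 ⟨cls_le 7 524288 okT9 tag9 sg_8K (by decide +kernel),
    List.forall_mem_cons.2 ⟨cls_le 7 3145728 okT10 tag10 sg_8K (by decide +kernel),
    fun _ h => absurd h List.not_mem_nil⟩⟩) (by decide +kernel)

theorem box_8M : BoxB 43 := box_list 4 11 [(8, 2621440), (9, 3145728), (10, 1572864)]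
  (List.forall_mem_cons.2 ⟨cls_le 11 2621440 okT8 tag8 sg_8M (by decide +kernel),
    List.forall_mem_cons.2 ⟨cls_le 11 3145728 okT9 tag9 sg_8M (by decide +kernel),
    List.forall_mem_cons.2 ⟨cls_le 11 1572864 okT10 tag10 sg_8M (by decide +kernel),
    fun _ h => absurd h List.not_mem_nil⟩⟩⟩) (by decide +kernel)

theorem box_8N : BoxB 44 := box_list 4 3 [(8, 2621440)]
  (List.forall_mem_cons.2 ⟨cls_le 3 2621440 okT8 tag8 sg_8N (by decide +kernel),
    fun _ h => absurd h List.not_mem_nil⟩) (by decide +kernel)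

theorem box_10E : BoxB 51 := box_list 5 5 [(14, 1310720)]
  (List.forall_mem_cons.2 ⟨cls_le 5 1310720 okT14 tag14 sg_10E (by decide +kernel),
    fun _ h => absurd h List.not_mem_nil⟩) (by decide +kernel)

theorem box_12J : BoxB 63 := box_list 6 9 [(18, 1572864)]
  (List.forall_mem_cons.2 ⟨cls_le 9 1572864 okT18 tag18 sg_12J (by decide +kernel),
    fun _ h => absurd h List.not_mem_nil⟩) (by decide +kernel)

theorem box_12P : BoxB 69 := box_list 6 3 [(18, 1572864)]
  (List.forall_mem_cons.2 ⟨cls_le 3 1572864 okT18 tag18 sg_12P (by decide +kernel),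
    fun _ h => absurd h List.not_mem_nil⟩) (by decide +kernel)

theorem box_14E : BoxB 79 := box_list 7 2 [(21, 524288)]
  (List.forall_mem_cons.2 ⟨cls_le 2 524288 okT21 tag21 sg_14E (by decide +kernel),
    fun _ h => absurd h List.not_mem_nil⟩) (by decide +kernel)

theorem box_16G : BoxB 87 := box_list 8 1 [(25, 2097152)]
  (List.forall_mem_cons.2 ⟨cls_le 1 2097152 okT25 tag25 sg_16G (by decide +kernel),
    fun _ h => absurd h List.not_mem_nil⟩) (by decide +kernel)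

theorem box_16H : BoxB 88 := box_list 8 1 [(25, 2097152)]
  (List.forall_mem_cons.2 ⟨cls_le 1 2097152 okT25 tag25 sg_16H (by decide +kernel),
    fun _ h => absurd h List.not_mem_nil⟩) (by decide +kernel)

theorem box_24I : BoxB 118 := box_list 12 3 [(35, 2097152)]
  (List.forall_mem_cons.2 ⟨cls_le 3 2097152 okT35 tag35 sg_24I (by decide +kernel),
    fun _ h => absurd h List.not_mem_nil⟩) (by decide +kernel)

theorem box_24L : BoxB 121 := box_list 12 1 [(35, 2097152)]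
  (List.forall_mem_cons.2 ⟨cls_le 1 2097152 okT35 tag35 sg_24L (by decide +kernel),
    fun _ h => absurd h List.not_mem_nil⟩) (by decide +kernel)

theorem box_28E : BoxB 132 := box_list 14 2 [(42, 2097152)]
  (List.forall_mem_cons.2 ⟨cls_le 2 2097152 okT42 tag42 sg_28E (by decide +kernel),
    fun _ h => absurd h List.not_mem_nil⟩) (by decide +kernel)

theorem box_30D : BoxB 136 := box_list 15 2 [(43, 2097152)]
  (List.forall_mem_cons.2 ⟨cls_le 2 2097152 okT43 tag43 sg_30D (by decide +kernel),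
    fun _ h => absurd h List.not_mem_nil⟩) (by decide +kernel)

/-- **The 20 boxes.** -/
theorem boxes : ∀ i ∈ [11, 14, 16, 23, 26, 37, 40, 41, 43, 44, 51, 63, 69, 79, 87, 88, 118, 121, 132, 136], BoxB i := by
  simp only [List.forall_mem_cons, List.not_mem_nil, false_imp_iff, implies_true, and_true]
  exact ⟨box_4E, box_4H, box_4J, box_6E, box_6H, box_8G, box_8J, box_8K, box_8M, box_8N, box_10E, box_12J, box_12P, box_14E, box_16G, box_16H, box_24I, box_24L, box_28E, box_30D⟩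

end Cfsg.Agent.TAB.B.DG

private theorem dce_b236b05dd2f4 : _root_.True := by
  try have : _root_.True := by simp only [_root_.Cfsg.Agent.TAB.B.DG.selS.eq_1]
  exact _root_.True.intro
end

-- part: BMx/Fr5
section
prune_inst 0x400400040400000000000000000000400000100002000002840040008080302800001000420100000c2a2804000000000000000000000000000000000000000000202061000a000010000009004000000000000000000000000000000000000000000000
set_option linter.all false
open scoped Cfsg.Agent.FastGrp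

/-!
# The frame at the class 5B of the Baby Monster (helper88, for S5527)

`frame5 : Frame1 (g wv) gen5 M5`, `gen5 i = g (wgen5 i)`, `card5`.
-/

set_option autoImplicit false
set_option maxRecDepth 100000

namespace Cfsg.Agent.BMx.Fr5

open Subgroup Matrix Cfsg.Agent.BMx.Baer Cfsg.Agent.BMx.Fast
open Cfsg.Agent.H819.U33 (g g_append g_winv g_nil)
open Cfsg.Agent.BabyM.Conc (Ltr)

theorem fact5 : Fact (1 < 5) := ⟨by norm_num⟩

attribute [local instance] fact5

theorem D5_ok : D5.Ok := by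
  unfold Num.Ok
  decide +kernel

/-! ### Orbits -/

/-- the vector with a number -/
def vec (n : ℕ) : Fin 5 → ZMod 5 := fun i => ((n / 5 ^ (i : ℕ) : ℕ) : ZMod 5)

/-- the number of a vector -/
def code (u : Fin 5 → ZMod 5) : ℕ := (u 0).val + 5 * (u 1).val + 25 * (u 2).val + 125 * (u 3).val + 625 * (u 4).val

theorem vec_code (u : Fin 5 → ZMod 5) : vec (code u) = u := by
  have h0 := ZMod.val_lt (u 0)
  have h1 := ZMod.val_lt (u 1)
  have h2 := ZMod.val_lt (u 2)
  have h3 := ZMod.val_lt (u 3)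
  have h4 := ZMod.val_lt (u 4)
  have key : ∀ (n : ℕ) (x : ZMod 5), n % 5 = x.val → (n : ZMod 5) = x := fun n x h => by
    rw [← ZMod.natCast_mod, h, ZMod.natCast_zmod_val]
  have k0 : vec (code u) 0 = u 0 := key _ _ (by show code u / 1 % 5 = _; unfold code; omega)
  have k1 : vec (code u) 1 = u 1 := key _ _ (by show code u / 5 % 5 = _; unfold code; omega)
  have k2 : vec (code u) 2 = u 2 := key _ _ (by show code u / 25 % 5 = _; unfold code; omega)
  have k3 : vec (code u) 3 = u 3 := key _ _ (by show code u / 125 % 5 = _; unfold code; omega)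
  have k4 : vec (code u) 4 = u 4 := key _ _ (by show code u / 625 % 5 = _; unfold code; omega)
  funext i
  fin_cases i
  exacts [k0, k1, k2, k3, k4]

theorem vec_inj {a b : ℕ} (ha : a < 3125) (hb : b < 3125) (h : vec a = vec b) : a = b := by
  have key : ∀ i : Fin 5, a / 5 ^ (i : ℕ) % 5 = b / 5 ^ (i : ℕ) % 5 := fun i =>
    (ZMod.natCast_eq_natCast_iff' _ _ 5).1 (congrFun h i)
  have h0 := key 0
  have h1 := key 1
  have h2 := key 2
  have h3 := key 3
  have h4 := key 4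
  norm_num at h0 h1 h2 h3 h4
  omega

/-- evaluate first -/
noncomputable def frc (e : ℕ) (k : ℕ → ℕ) : ℕ := Nat.rec (motive := fun _ => ℕ) (k 0) (fun m _ => k m) (Nat.add e 1)

theorem frc_eq (e : ℕ) (k : ℕ → ℕ) : frc e k = k e := rfl

/-- action of a word on numbers -/
noncomputable def wact (w : List (Fin 6)) : ℕ → ℕ :=
  List.rec (motive := fun _ => ℕ → ℕ) (fun n => n) (fun i _ ih n => frc (code (vec n ᵥ* M5 i)) ih) w

/-- one step -/
noncomputable def gstep (ws : List (List (Fin 6))) (x s : ℕ) : ℕ :=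
  cond (s.testBit (x % 4096)) (frc (wact (ws.getD (x / 4096) []) (x % 4096)) fun n => s ||| 2 ^ n) s

/-- `n` steps -/
noncomputable def grow (ws : List (List (Fin 6))) (n : ℕ) : ℕ → ℕ → ℕ :=
  Nat.rec (motive := fun _ => ℕ → ℕ → ℕ) (fun _ s => s)
    (fun _ ih T s => frc (T % 65536) fun x => frc (gstep ws x s) fun s' => frc (T / 65536) fun T' => ih T' s') n

/-- number of bits -/
noncomputable def cnt (s n : ℕ) : ℕ := Nat.rec (motive := fun _ => ℕ) 0 (fun i r => cond (s.testBit i) (r + 1) r) n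

theorem cnt_eq (s n : ℕ) : cnt s n = ((Finset.range n).filter fun i => s.testBit i = true).card := by
  induction n with
  | zero => rfl
  | succ n ih =>
    have e : cnt s (n + 1) = cond (s.testBit n) (cnt s n + 1) (cnt s n) := rfl
    rw [e, Finset.range_add_one, Finset.filter_insert, ih]
    cases s.testBit n
    · simp
    · rw [if_pos rfl, Finset.card_insert_of_notMem (by simp)]; rfl

section abs

variable {G : Type} [Group G] {a : Fin 5 → G} {gen : Fin 6 → G}

/-- the value of a word -/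
def el (gen : Fin 6 → G) (w : List (Fin 6)) : G := (w.map gen).prod

theorem wact_spec (hA : ∀ i, Act D5 a (gen i) (M5 i)) (w : List (Fin 6)) :
    ∀ n, (el gen w)⁻¹ * bf D5 a (vec n) * el gen w = bf D5 a (vec (wact w n)) := by
  induction w with
  | nil => intro n; simp [el]; rfl
  | cons i w ih =>
    intro n
    have e : wact (i :: w) n = wact w (code (vec n ᵥ* M5 i)) := rfl
    rw [e, ← ih, vec_code, ← hA i, el, el, List.map_cons, List.prod_cons]
    group

theorem grow_sound {P : ℕ → Prop} {ws : List (List (Fin 6))} (h : ∀ w ∈ ws, ∀ n, P n → P (wact w n)) (n : ℕ) :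
    ∀ T s, (∀ i, s.testBit i = true → P i) → ∀ i, (grow ws n T s).testBit i = true → P i := by
  induction n with
  | zero => intro T s hs; exact hs
  | succ n ih =>
    intro T s hs
    have e : grow ws (n + 1) T s = grow ws n (T / 65536) (gstep ws (T % 65536) s) := rfl
    rw [e]
    refine ih _ _ fun i hi => ?_
    unfold gstep at hi
    cases hb : s.testBit (T % 65536 % 4096) with
    | false => rw [hb] at hi; exact hs i hi
    | true =>
      rw [hb, cond_true, frc_eq, Nat.testBit_or, Nat.testBit_two_pow, Bool.or_eq_true] at hi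
      rcases hi with hi | hi
      · exact hs i hi
      · rw [← of_decide_eq_true hi]
        by_cases hl : T % 65536 / 4096 < ws.length
        · rw [List.getD_eq_getElem _ _ hl]; exact h _ (List.getElem_mem hl) _ (hs _ hb)
        · rw [List.getD_eq_default _ _ (by omega)]; exact hs _ hb

theorem orbit_le [Finite G] (H : Rel D5 a) (hA : ∀ i, Act D5 a (gen i) (M5 i)) (K : Subgroup G)
    {ws : List (List (Fin 6))} (hw : ∀ w ∈ ws, el gen w ∈ K) {n0 n T c : ℕ}
    (hc : frc (grow ws n T (2 ^ n0)) (fun s => cnt s 3125) = c) :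
    c * Nat.card ↥(K ⊓ centralizer {bf D5 a (vec n0)}) ≤ Nat.card K := by
  classical
  rw [frc_eq, cnt_eq] at hc
  have h1 := grow_sound (P := fun i => ∃ t ∈ K, t⁻¹ * bf D5 a (vec n0) * t = bf D5 a (vec i)) (ws := ws)
    (fun w hw' i ⟨t, ht, e⟩ => ⟨t * el gen w, K.mul_mem ht (hw w hw'), by rw [← wact_spec hA, ← e]; group⟩) n T (2 ^ n0)
    (fun i hi => by
      rw [Nat.testBit_two_pow] at hi
      exact ⟨1, K.one_mem, by rw [← of_decide_eq_true hi]; group⟩)
  have h2 := chain_step K (bf D5 a (vec n0)) (((Finset.range 3125).filter fun i =>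
    (grow ws n T (2 ^ n0)).testBit i = true).image fun i => bf D5 a (vec i)) (fun o ho => by
      obtain ⟨i, hi, rfl⟩ := Finset.mem_image.1 ho
      exact h1 i (Finset.mem_filter.1 hi).2)
  rwa [Finset.card_image_of_injOn (fun i hi j hj e => vec_inj (Finset.mem_range.1 (Finset.mem_filter.1 hi).1)
    (Finset.mem_range.1 (Finset.mem_filter.1 hj).1) (H.bf_inj e)), hc] at h2

/-- generators of the stabiliser -/
def ws2 : List (List (Fin 6)) := [[4, 5, 5, 4, 4, 5, 4, 4], [5, 5, 4, 5, 5, 4, 4, 4, 5], [0]]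

private noncomputable def _root_.Cfsg.Agent.LsF.f286ce6_0 : {f // @Cfsg.Agent.BMx.Fr5.code = f} := ⟨_, by first | (delta Cfsg.Agent.BMx.Fr5.code; rewrite [Cfsg.Agent.LsF.nadd_pat, Cfsg.Agent.LsF.nmul_pat, Cfsg.Agent.LsF.zval_eq]; exact rfl) | exact rfl⟩
private noncomputable def _root_.Cfsg.Agent.LsF.f286ce6_1 : {f // @Cfsg.Agent.BMx.Fr5.vec = f} := ⟨_, by first | (delta Cfsg.Agent.BMx.Fr5.vec; rewrite [Cfsg.Agent.LsF.ndiv_pat, Cfsg.Agent.LsF.npow_pat, Cfsg.Agent.LsF.zcast_pat]; exact rfl) | exact rfl⟩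
private noncomputable def _root_.Cfsg.Agent.LsF.f286ce6_2 : {f // @Cfsg.Agent.BMx.Fr5.M5 = f} := ⟨_, by first | (delta Cfsg.Agent.BMx.Fr5.M5; rewrite [Cfsg.Agent.LsF.mof_pat, Cfsg.Agent.LsF.vecCons_eq]; exact rfl) | exact rfl⟩
private noncomputable def _root_.Cfsg.Agent.LsF.f286ce6_3 : {f // @Cfsg.Agent.BMx.Fr5.wact = f} := ⟨_, by first | (delta Cfsg.Agent.BMx.Fr5.wact; rewrite [Cfsg.Agent.LsF.vecMulF_pat, Cfsg.Agent.LsF.f286ce6_0.2, Cfsg.Agent.LsF.f286ce6_1.2, Cfsg.Agent.LsF.f286ce6_2.2, Cfsg.Agent.LsF.zadd_pat, Cfsg.Agent.LsF.zmul_pat]; exact rfl) | exact rfl⟩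
private noncomputable def _root_.Cfsg.Agent.LsF.f286ce6_4 : {f // @Cfsg.Agent.BMx.Fr5.gstep = f} := ⟨_, by first | (delta Cfsg.Agent.BMx.Fr5.gstep; rewrite [Cfsg.Agent.LsF.f286ce6_3.2, Cfsg.Agent.LsF.ndiv_pat, Cfsg.Agent.LsF.nmod_pat, Cfsg.Agent.LsF.npow_pat, Cfsg.Agent.LsF.nor_pat, Cfsg.Agent.LsF.cond_eq, Cfsg.Agent.LsF.testBit_eq, Cfsg.Agent.LsF.getD_eq]; exact rfl) | exact rfl⟩
private noncomputable def _root_.Cfsg.Agent.LsF.f286ce6_5 : {f // @Cfsg.Agent.BMx.Fr5.grow = f} := ⟨_, by first | (delta Cfsg.Agent.BMx.Fr5.grow; rewrite [Cfsg.Agent.LsF.f286ce6_4.2, Cfsg.Agent.LsF.ndiv_pat, Cfsg.Agent.LsF.nmod_pat]; exact rfl) | exact rfl⟩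
private noncomputable def _root_.Cfsg.Agent.LsF.f286ce6_6 : {f // @Cfsg.Agent.BMx.Fr5.cnt = f} := ⟨_, by first | (delta Cfsg.Agent.BMx.Fr5.cnt; rewrite [Cfsg.Agent.LsF.nadd_pat, Cfsg.Agent.LsF.cond_eq, Cfsg.Agent.LsF.testBit_eq]; exact rfl) | exact rfl⟩
theorem orb1 : frc (grow [[4], [5], [1]] 1199 0x1292150319e5177402da0b52067008e1226904d20a2d1bfa051c09fe078d20f707bc054b0add086c038a22431320159121fa0505198914a72021102119e709e7096a1294029417760776218e018e13b6179b0b9f08e504030674212a15710b4b08da03f822611a5317e207e22108136b1865139607fe14a912790a6f13071b090b090898156f1627062721bf1a5117e012fe08ae03cc063d203a003a14ea175b006915dc138321c415f4211901191ae92540187810af231c031c209513660366157803ca17e9223612361483027b195f15d705d7165505410a231ba50ba507b21934093402d016c304120452219920b30a8c08481ab90ab91b3720161023002318c613e4081b060e05aa08d6033903f40665225b06721a6b0b54174f0a17147d047d04ec03921bd0206c1be506030ae5225409ce1bab075d193a145816c90aaf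15ec137b212d1318158920480401083e1a5c08e319191c3114de2241035c17eb053507a6222305cd1309157a171a071a1bfc0bfc098b225021920192180b1437043716a806a80b8a20102187018713290329059a1a7c0a7c208f108f222c06fe0be0087f0b051b780b78155a1b6d0b6d08131bf105c81bd60af0269612e908b31ac51280154605461a9c15591a280a28030b12d502d511450145057c0a5e208d108d1b2314f118b219d316f71641202c1bd90bd9215b015b196820e0196520081008039d089410fa03b2211211121425042521251125205e20ab00ab0794185403d1064221f21759135207c619ab09ab1347191e137215e310961a9a207a1b8f15c302e41834221805550a371767076714ef02b2187e14290429169a069a14ae1b7c0b7c171f071f190b090b0c01005f1990099021e111e101e121a1141a041a13a108a30a050b14052314e8139c039c03c1204510f500f5160d060d127720c40aef217311732240068b1612195518fc08fc214d06b118830b931af400c8092221830183160504971b550b5515f305f3070803f614d619d116731285028518e408e41760220c120c140204022121012114f604f613c909d8163a20ec000a1b1c21e711e70747137d18761ad50ad51394210a110a1864086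4200420a710a709791c290c2915ee05ee0bea1667066701900b49226d126d1ad00ad019b809b8205300532200185f085f00eb209810981a840aaa1331033115a205a2200c223812380238149e170f21fb08390baf07d602f421c611c601c60357093e045c20b810b800b802c1053216e406e4148d048d14fb04fb16d514cd18b5182b19cf053714730473196f096f1a9e0a9e16a706a714eb061104c913c008221a2517ca0ac4127415ba1349188812e808531a3b106400640371209a009a13aa17b407b4161b12d202d2188c215f115f15430543100f2215121514ed0a19121229d71bc60bc6012c2141014121b411b401b410780b0e0af3173a073a15bc05bc127a1b890b89282d182d082d2167216001601918091821e9217e19cd09cd21061b13151f0b3b1c1c0c1c1675288208822101110120d610d61b5718e621cb18a21a010a011631034010e105b1216b1790079012ae02ae007320f415510278189d089d0b691a7528e718040804132203221593059311b801b8223d123d023d176c076c1a48162c062c13bb03bb18f808f82150015000411416041620061006212b112b012b128a028a17d707d70c1d19dd09dd11a901a902f5156605662130113021cf01cf188108811b870b870720139f039f191609161b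0114af04af17f21a330a331c020c02200d100d219111910191131017c207c21a6320b212e002e01014001421581158189008901282161006102123112321111111011116a513ae03ae14340434022621850185061f226512650265210c110c010c1464176413d303d3173e1bb720c010c000c01c20222d122d1644064414f3208300831b260b2600e621eb01eb09060424142217a307a317770777197318d008d00a9214e504e503a6275e175e075e1a140a1412fa02fa187218ca08ca1c060c060693161706172756175620d810d82af91af90af920771077210001001b750b751904090421391139206110610061227c127c027c00552013220212020202121c021c14a513e803e81985098517dc07dc1ae3256b056b20da10da00da21c511c501c516012009100914b31935132d065904a3212f012f1258025807142193119317240724145319950995114f20cf00cf16c4203d103d003d151904911a5d1716071612881b9706cf157b244427ec200716b521940bb1094020b110b100b115061400040019871bf80bf8114a014a21a511a501a519e809e816710671129502951019001921bc1b530b53208410840084225914f9147c165f178a19db16ed06ed19fb17020702223e123e023e1be40be4209f109f206f1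06f006f0bcf076a212e112e012e195e095e21c311c301c3213d113d013d1b410b4115b0082103ee21f311f3225c125c133f033f2011101121621162016209f107801782078218030b771b3316b91a1a0a1a172a072a1957095719f31a74169506951b610b61159e059e13d2135a12a002a014750475200310032135113501351511051121b111b101b12321132120a3200b100b000b1050005019c61a800a800643167f067f28f008f0208910890089211f111f1b250b25280f180f080f117701772232023218b408b422421242024221e211e217a907a9130518c208c2175507550b9b1350057613e003e017e707e72099109921d311d30651220621ed01ed192a092a14e422341234023414480448202410240024218f118f018f19ad09ad199b153814cb04cb12c702c71037222012200220073c20171017220b120b020b14b904b90c0c217d117d017d20ce10ce00ce05d20ab40aad150f050f05c102fc13fa176b15cb05cb129e029e128318270827283c183c083c220412040204202f102f002f20b010b011b301b314bd04f4134503451765219d119d019d25b605b620bc10bc00bc216111610161166b066b1aa30aa3156d056d283218320832209410940094216f116f016f2a4f1a4f0a4f2002100221d711d701d70b4d14fa18dc08dc205610560056225a125a025a19dc2248124802482754186d138b1361036127ea17ea07ea19d909d9184308432c101c100c1020e910e900e9102d002d299f199f099f2012101220d410d400d41768076823081308030820df10df00df208b108b008b2286128602862189118901892018101824e314e32ade1ade24f014f004f015fc05fc10f000f0224c124c024c29d209d2209710970097201510150015227212720272211a111a011a200e100e000e200110010001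 (2 ^ 1)) (fun s => cnt s 3125) = 1200 := by
  (refine of_decide_eq_true ?_; (try (rewrite [Cfsg.Agent.LsF.f286ce6_5.2, Cfsg.Agent.LsF.f286ce6_6.2, Cfsg.Agent.LsF.npow_pat, Cfsg.Agent.LsF.instDecEq_eq, Cfsg.Agent.LsF.decide_eq])); decide +kernel)

theorem orb2 : frc (grow ws2 159 0x27e623c825fa29eb229c2364270d257525af2b7b2b1b2a1d28e0286b2298265e29ef2bdf2ab72ab3297e2304295d282028312428263922ce22ca266f2adc277a287c28cf250d2944248c25d5249023602bef209322e726ec2a9126db25c0290a21572a2127ac23fe21182027242c260b2b40202b25e126d3296e20f326c22be32842222b122b2a362a3a247b20cd294c234f21b711b7253f2059218d118d018d2b172b7f239a217c017c2a0428522462221b121b28632933270120ef00ef22e32558220a120a2bbd20de00de205d105d005d298f23c4269d2129112922b522b12ac321f101f125f22ba4221f121f27c52076007621f911f901f92564271e28a621bb01bb2a08279320ff10ff238121e001e020721072007227d524ad215311532526204000402110111001102a46223c023c204410440044208210820082 (2 ^ 130)) (fun s => cnt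 s 3125) = 160 := by
  (refine of_decide_eq_true ?_; (try (rewrite [Cfsg.Agent.LsF.f286ce6_5.2, Cfsg.Agent.LsF.f286ce6_6.2, Cfsg.Agent.LsF.npow_pat, Cfsg.Agent.LsF.instDecEq_eq, Cfsg.Agent.LsF.decide_eq])); decide +kernel)

theorem ws2_fix : ∀ w ∈ ws2, wact w 1 = 1 := by decide +kernel

theorem bf_mem {K : Subgroup G} (h : ∀ i, a i ∈ K) (u : Fin 5 → ZMod 5) : bf D5 a u ∈ K := by
  refine K.mul_mem (K.list_prod_mem fun x hx => ?_) (K.pow_mem (h _) _)
  obtain ⟨i, rfl⟩ := (List.mem_ofFn' _ _).1 hx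
  exact K.pow_mem (h _) _

theorem mem_cent (H : Rel D5 a) {u w : Fin 5 → ZMod 5} (h : u ⬝ᵥ D5.Bm *ᵥ w = 0) :
    bf D5 a w ∈ centralizer {bf D5 a u} := by
  have h1 := H.bf_conj u w
  rw [h, Pi.single_zero, add_zero, mul_assoc, inv_mul_eq_iff_eq_mul] at h1
  exact mem_centralizer_singleton_iff.2 h1.symm

private noncomputable def _root_.Cfsg.Agent.LsF.f286ce6_7 : {f // @Cfsg.Agent.BMx.Baer.low = f} := ⟨_, by first | (delta Cfsg.Agent.BMx.Baer.low; rewrite [Cfsg.Agent.LsF.dFinLt_eq, Cfsg.Agent.LsF.ite_eq]; exact rfl) | exact rfl⟩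
private noncomputable def _root_.Cfsg.Agent.LsF.f286ce6_8 : {f // @Cfsg.Agent.BMx.Baer.Num.Bm = f} := ⟨_, by first | (delta Cfsg.Agent.BMx.Baer.Num.Bm; rewrite [Cfsg.Agent.LsF.f286ce6_7.2, Cfsg.Agent.LsF.transpose_eq]; exact rfl) | exact rfl⟩
private noncomputable def _root_.Cfsg.Agent.LsF.f286ce6_9 : {f // @Cfsg.Agent.BMx.Fr5.D5 = f} := ⟨_, by first | (delta Cfsg.Agent.BMx.Fr5.D5; rewrite [Cfsg.Agent.LsF.mof_pat, Cfsg.Agent.LsF.vecCons_eq]; exact rfl) | exact rfl⟩
theorem card_ge [Finite G] (H : Rel D5 a) (hA : ∀ i, Act D5 a (gen i) (M5 i)) {K : Subgroup G} (hg : ∀ i, gen i ∈ K)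
    (ha : ∀ i, a i ∈ K) : 24000000 ≤ Nat.card K ∧ (Nat.card K ≤ 24000000 → ∀ s ∈ K,
      (∀ u, bf D5 a u * s = s * bf D5 a u) → s ∈ zpowers (a 4)) := by
  have he : ∀ w, el gen w ∈ K := fun w => K.list_prod_mem fun x hx => by
    obtain ⟨i, -, rfl⟩ := List.mem_map.1 hx
    exact hg i
  have h1 := orbit_le H hA K (fun w _ => he w) orb1
  have h2 := orbit_le H hA (K ⊓ centralizer {bf D5 a (vec 1)}) (fun w hw => ⟨he w, by
    have e := wact_spec hA w 1
    rw [ws2_fix w hw, mul_assoc, inv_mul_eq_iff_eq_mul] at e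
    exact mem_centralizer_singleton_iff.2 e.symm⟩) orb2
  have c1 : ∀ x y z : ZMod 5, vec 1 ⬝ᵥ D5.Bm *ᵥ ![x, 0, 4 * x, y, z] = 0 ∧
      vec 130 ⬝ᵥ D5.Bm *ᵥ ![x, 0, 4 * x, y, z] = 0 := by (refine of_decide_eq_true ?_; (try (rewrite [Cfsg.Agent.LsF.mulVecF_pat, Cfsg.Agent.LsF.dotF_pat, Cfsg.Agent.LsF.f286ce6_1.2, Cfsg.Agent.LsF.f286ce6_8.2, Cfsg.Agent.LsF.f286ce6_9.2, Cfsg.Agent.LsF.zadd_pat, Cfsg.Agent.LsF.zmul_pat, Cfsg.Agent.LsF.vecCons_eq, Cfsg.Agent.LsF.zdecEq_eq, Cfsg.Agent.LsF.zFintype_eq, Cfsg.Agent.LsF.dForall_eq, Cfsg.Agent.LsF.zACM_pat, Cfsg.Agent.LsF.dAnd_eq, Cfsg.Agent.LsF.decide_eq])); decide +kernel)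
  let f : ZMod 5 × ZMod 5 × ZMod 5 → ↥(K ⊓ centralizer {bf D5 a (vec 1)} ⊓ centralizer {bf D5 a (vec 130)}) :=
    fun x => ⟨bf D5 a ![x.1, 0, 4 * x.1, x.2.1, x.2.2], ⟨bf_mem ha _, mem_cent H (c1 _ _ _).1⟩, mem_cent H (c1 _ _ _).2⟩
  have hf : Function.Injective f := by
    intro x y e
    have e1 := H.bf_inj (congrArg Subtype.val e)
    exact Prod.ext (congrFun e1 0) (Prod.ext (congrFun e1 3) (congrFun e1 4))
  have h3 := Nat.card_le_card_of_injective f hf
  have h4 : Nat.card (ZMod 5 × ZMod 5 × ZMod 5) = 125 := by rw [Nat.card_prod, Nat.card_prod, Nat.card_zmod]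
  refine ⟨by omega, fun hc s hs hu => ?_⟩
  have h5 : Function.Bijective f := hf.bijective_of_nat_card_le (by omega)
  obtain ⟨⟨x, y, z⟩, e⟩ := h5.2 ⟨s, ⟨hs, mem_centralizer_singleton_iff.2 (hu _).symm⟩,
    mem_centralizer_singleton_iff.2 (hu _).symm⟩
  have e1 : bf D5 a ![x, 0, 4 * x, y, z] = s := congrArg Subtype.val e
  have h6 : ∀ u, u ⬝ᵥ D5.Bm *ᵥ ![x, 0, 4 * x, y, z] = 0 := by
    intro u
    have h7 := H.bf_conj u ![x, 0, 4 * x, y, z]
    rw [e1, mul_assoc, hu, inv_mul_cancel_left, H.bf_add_l, left_eq_mul] at h7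
    exact pw_eq_one Nat.prime_five (H.pow _) H.ne h7
  have c2 : ∀ x y z : ZMod 5, vec 5 ⬝ᵥ D5.Bm *ᵥ ![x, 0, 4 * x, y, z] = 0 →
      vec 25 ⬝ᵥ D5.Bm *ᵥ ![x, 0, 4 * x, y, z] = 0 → ![x, 0, 4 * x, y, z] = Pi.single D5.l z := by (refine of_decide_eq_true ?_; (try (delta Function.update Pi.single; rewrite [Cfsg.Agent.LsF.mulVecF_pat, Cfsg.Agent.LsF.dotF_pat, Cfsg.Agent.LsF.dPiF_pat, Cfsg.Agent.LsF.f286ce6_1.2, Cfsg.Agent.LsF.f286ce6_8.2, Cfsg.Agent.LsF.f286ce6_9.2, Cfsg.Agent.LsF.zadd_pat, Cfsg.Agent.LsF.zmul_pat, Cfsg.Agent.LsF.vecCons_eq, Cfsg.Agent.LsF.zdecEq_eq, Cfsg.Agent.LsF.zFintype_eq, Cfsg.Agent.LsF.dForall_eq, Cfsg.Agent.LsF.zACM_pat, Cfsg.Agent.LsF.dFinEq_eq, Cfsg.Agent.LsF.dAllP_eq, Cfsg.Agent.LsF.dite_eq, Cfsg.Agent.LsF.decide_eq])); decide +kernel)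
  rw [← e1, c2 x y z (h6 _) (h6 _), H.bf_l]
  exact pow_mem (mem_zpowers _) _

theorem M5_last : ∀ i : Fin 6, ∀ j, M5 i D5.l j = if j = D5.l then M5 i 4 4 else 0 := by decide +kernel

theorem frame_abs [Finite G] (H : Rel D5 a) (hA : ∀ i, Act D5 a (gen i) (M5 i))
    (ha : ∀ i, a i ∈ closure (Set.range gen))
    (hc : Nat.card ↥(normalizer ((zpowers (a 4) : Subgroup G) : Set G)) ≤ 24000000) : Frame1 (a 4) gen M5 := by
  have hm : ∀ i, gen i ∈ normalizer ((zpowers (a 4) : Subgroup G) : Set G) := fun i =>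
    (hA i).mem_normalizer H (M5_last i)
  have hK : closure (Set.range gen) ≤ normalizer ((zpowers (a 4) : Subgroup G) : Set G) := by
    rw [closure_le]; rintro _ ⟨i, rfl⟩; exact hm i
  have hN : closure (Set.range gen) = normalizer ((zpowers (a 4) : Subgroup G) : Set G) :=
    eq_of_le_of_card_ge hK (hc.trans (card_ge H hA (K := closure (Set.range gen))
      (fun i => Subgroup.subset_closure ⟨i, rfl⟩) ha).1)
  obtain ⟨ρ, hρ⟩ := H.exists_rep hA hN.ge
  refine ⟨ρ, hm, fun s => ⟨fun hs => ?_, fun hs => (hρ s).unique H (H.act_y hs)⟩, fun i => (hρ _).unique H (hA i),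
    hN.ge.trans le_sup_left⟩
  have h1 := hρ s
  rw [hs, act_one_iff] at h1
  exact (card_ge H hA hm (fun i => hK (ha i))).2 hc s s.2 h1

end abs

/-! ### The instance -/

/-- the generators of the extraspecial group in the model -/
noncomputable def a5 (i : Fin 5) : H819.U33.G := g (wa i)

/-- the generators in the model -/
noncomputable def gen5 (i : Fin 6) : H819.U33.G := g (wgen5 i)

theorem a5_4 : a5 4 = g wv := rfl

theorem a5_pow (i : Fin 5) : a5 i ^ 5 = 1 := by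
  fin_cases i
  exacts [pow_of_powF c_pow0, pow_of_powF c_pow1, pow_of_powF c_pow2, pow_of_powF c_pow3, pow_of_powF c_pow4]

theorem pw_cases {G : Type*} [Group G] {x : G} (h : x ^ 5 = 1) :
    x * x = pw x (2 : ZMod 5) ∧ x⁻¹ * x⁻¹ = pw x (3 : ZMod 5) ∧ x⁻¹ = pw x (4 : ZMod 5) := by
  refine ⟨(pow_two x).symm, ?_, ?_⟩
  · show _ = x ^ 3
    calc x⁻¹ * x⁻¹ = x⁻¹ * x⁻¹ * x ^ 5 := by rw [h, mul_one]
      _ = x ^ 3 := by group
  · show _ = x ^ 4
    calc x⁻¹ = x⁻¹ * x ^ 5 := by rw [h, mul_one]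
      _ = x ^ 4 := by group

theorem g_wp {w : List Ltr} (h : g w ^ 5 = 1) (c : ZMod 5) : g (wp w c) = pw (g w) c := by
  obtain ⟨h2, h3, h4⟩ := pw_cases h
  fin_cases c
  · exact g_nil.trans (pw_zero _).symm
  · exact (pw_one _).symm
  · exact (g_append _ _).trans h2
  · exact (g_append _ _).trans (by rw [g_winv]; exact h3)
  · exact (g_winv _).trans h4

theorem com_of {i j : Fin 5} (h : eqF (wa i ++ wa j) (wp wv (D5.F i j) ++ wa j ++ wa i) = true) :
    a5 i * a5 j = pw (a5 D5.l) (D5.F i j) * a5 j * a5 i := by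
  have h1 := eq_of_eqF h
  rw [g_append, g_append, g_append, g_wp (w := wv) (a5_pow 4)] at h1
  exact h1

theorem a5_com : ∀ i j : Fin 5, j < i → a5 i * a5 j = pw (a5 D5.l) (D5.F i j) * a5 j * a5 i := by
  intro i j h
  match i, j, h with
  | 1, 0, _ => exact com_of c_com10
  | 2, 0, _ => exact com_of c_com20
  | 2, 1, _ => exact com_of c_com21
  | 3, 0, _ => exact com_of c_com30
  | 3, 1, _ => exact com_of c_com31
  | 3, 2, _ => exact com_of c_com32
  | 4, 0, _ => exact com_of c_com40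
  | 4, 1, _ => exact com_of c_com41
  | 4, 2, _ => exact com_of c_com42
  | 4, 3, _ => exact com_of c_com43

theorem rel5 : Rel D5 a5 where
  prime := Nat.prime_five
  ok := D5_ok
  pow := a5_pow
  ne := by have h := ne_of_neF c_ne; rwa [g_nil] at h
  cen i := by
    have h0 : ∀ j : Fin 5, D5.F 4 j = 0 := by decide +kernel
    by_cases h : i < 4
    · have h1 := a5_com 4 i h
      rw [h0, pw_zero, one_mul] at h1
      exact h1.symm
    · rw [show i = D5.l from le_antisymm (Fin.le_last i) (not_lt.1 h)]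
  com := a5_com

theorem g_bfw (u : Fin 5 → ZMod 5) : g (bfw u) = bf D5 a5 u := by
  unfold bfw bf nf
  rw [g_append, g_append, g_append, g_append, g_wp (w := we0) (a5_pow 0), g_wp (w := we1) (a5_pow 1),
    g_wp (w := we2) (a5_pow 2), g_wp (w := we3) (a5_pow 3), g_wp (w := wv) (a5_pow 4), pw_add (x := g wv) (a5_pow 4)]
  simp only [List.ofFn_succ, List.ofFn_zero, List.prod_cons, List.prod_nil, mul_one, mul_assoc]
  rfl

theorem bf_a5 (i : Fin 5) : bf D5 a5 (Pi.single i 1) = a5 i := by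
  have h0 : ∀ j : Fin 5, D5.c j = 0 := by decide +kernel
  rw [bf_single, h0, pw_zero, mul_one]

theorem row_of {i : Fin 5} {c : Fin 6} (h : eqF (wa i ++ wgen5 c) (wgen5 c ++ bfw (M5 c i)) = true) :
    (gen5 c)⁻¹ * bf D5 a5 (Pi.single i 1) * gen5 c = bf D5 a5 (M5 c i) := by
  have h1 := eq_of_eqF h
  rw [g_append, g_append, g_bfw] at h1
  rw [bf_a5, mul_assoc, inv_mul_eq_iff_eq_mul]
  exact h1

theorem act5 (c : Fin 6) : Act D5 a5 (gen5 c) (M5 c) := by
  have h1 : ∀ j : Fin 4, Act D5 a5 (a5 j.castSucc) (M5 (j.castLE (by norm_num))) := by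
    have h : ∀ (j : Fin 4) (b a : Fin 5), M5 (j.castLE (by norm_num)) a b =
      (if a = b then (1 : ZMod 5) else 0) + if b = 4 then D5.Bm a j.castSucc else 0 := by decide +kernel
    intro j
    rw [← bf_a5]
    refine rel5.act_bf fun a b => ?_
    rw [h, mulVec, dotProduct_single, mul_one]
    rfl
  have s4 : D5.Sim (M5 4) 2 := by unfold Num.Sim; decide +kernel
  have s5 : D5.Sim (M5 5) 4 := by unfold Num.Sim; decide +kernel
  fin_cases c
  · exact h1 0
  · exact h1 1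
  · exact h1 2
  · exact h1 3
  · refine rel5.act_of s4 fun i => ?_
    fin_cases i
    exacts [row_of c_act40, row_of c_act41, row_of c_act42, row_of c_act43, row_of c_act44]
  · refine rel5.act_of s5 fun i => ?_
    fin_cases i
    exacts [row_of c_act50, row_of c_act51, row_of c_act52, row_of c_act53, row_of c_act54]

theorem a5_mem (i : Fin 5) : a5 i ∈ closure (Set.range gen5) := by
  have hg : ∀ j, gen5 j ∈ closure (Set.range gen5) := fun j => subset_closure ⟨j, rfl⟩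
  have h1 := rel5.bf_conj (Pi.single 0 1) (Pi.single 1 1)
  have c : (Pi.single 0 1 : Fin 5 → ZMod 5) ⬝ᵥ D5.Bm *ᵥ Pi.single 1 1 = 1 := by decide +kernel
  rw [rel5.bf_add_l, bf_a5, bf_a5, c, pw_one] at h1
  have h2 : a5 4 = (a5 0)⁻¹ * ((a5 1)⁻¹ * a5 0 * a5 1) := by
    rw [h1, inv_mul_cancel_left]; rfl
  have h3 : a5 0 ∈ closure (Set.range gen5) := hg 0
  have h4 : a5 1 ∈ closure (Set.range gen5) := hg 1
  have h5 : a5 4 ∈ closure (Set.range gen5) := by
    rw [h2]; exact mul_mem (inv_mem h3) (mul_mem (mul_mem (inv_mem h4) h3) h4)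
  fin_cases i
  exacts [hg 0, hg 1, hg 2, hg 3, h5]

theorem finG : Finite H819.U33.G := by
  have := Loc5.fin_BM
  let φ : H819.U33.G ≃* BM := BM.KHAll.iso.symm
  exact Finite.of_equiv _ φ.symm.toEquiv

theorem order5 : orderOf (g wv) = 5 := by
  have := Fact.mk Nat.prime_five
  exact orderOf_eq_prime (a5_pow 4) rel5.ne

theorem cent_dvd : 5 ^ 5 ∣ Nat.card ↥(centralizer ({g wv} : Set H819.U33.G)) := by
  let P : Subgroup H819.U33.G :=
    { carrier := Set.range (bf D5 a5)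
      one_mem' := ⟨0, bf_zero⟩
      mul_mem' := by rintro _ _ ⟨u, rfl⟩ ⟨v, rfl⟩; exact ⟨_, (rel5.bf_mul u v).symm⟩
      inv_mem' := by rintro _ ⟨u, rfl⟩; exact ⟨_, rel5.bf_neg u⟩ }
  have h1 : Nat.card P = 5 ^ 5 := by
    have h2 : Nat.card P = Nat.card (Fin 5 → ZMod 5) := (Nat.card_congr (Equiv.ofInjective _ rel5.bf_inj)).symm
    rw [h2, Nat.card_fun, Nat.card_zmod, Nat.card_eq_fintype_card, Fintype.card_fin]
  rw [← h1]
  refine card_dvd_of_le ?_
  rintro _ ⟨u, rfl⟩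
  exact bf_mem (fun i => mem_centralizer_singleton_iff.2 (rel5.cen i)) u

theorem card_N : Nat.card ↥(normalizer ((zpowers (g wv) : Subgroup H819.U33.G) : Set H819.U33.G)) ≤ 24000000 := by
  have := finG
  let φ : H819.U33.G ≃* BM := BM.KHAll.iso.symm
  obtain ⟨c, hc, h1⟩ := LocAbs.card_norm Nat.prime_five order5
  have h2 := Loc5.cent5_le' (y := φ (g wv)) (by rw [MulEquiv.orderOf_eq, order5])
    (by rw [LocAbs.card_cent_map]; exact cent_dvd)
  rw [LocAbs.card_cent_map] at h2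
  rw [h1]
  calc _ ≤ 6000000 * 4 := Nat.mul_le_mul h2 (Nat.le_of_dvd (by norm_num) hc)
    _ = 24000000 := by norm_num

/-- **The frame at 5B.** -/
theorem frame5 : Frame1 (g wv) gen5 M5 := by
  have := finG
  have h := frame_abs rel5 act5 a5_mem (by rw [a5_4]; exact card_N)
  rwa [a5_4] at h

end Cfsg.Agent.BMx.Fr5

private theorem dce_4dd0ce5c7a97 : _root_.True := by
  try have : _root_.True := by simp only [_root_.Cfsg.Agent.BMx.Fr5.el.eq_1]
  exact _root_.True.intro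
end

-- part: TAB/B/D/C
section
prune_inst 0x40040000040000000000000000020640000010000600001280004000800030200000100040012100002a28000000040000000000000000000000000400000000000020000000000000000009004000000000000000000000000000000000000000000000
set_option linter.all false
open scoped Cfsg.Agent.FastGrp

/-!
# The boxes in the section of the class 5B of the Baby Monster (helper14, TAB)
-/

set_option autoImplicit false
set_option maxRecDepth 100000

namespace Cfsg.Agent.TAB.B.D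

open Cfsg Subgroup Matrix Cfsg.Agent.TAB.Eng Cfsg.Agent.BMx.Fast Cfsg.Agent.BMx Cfsg.Agent.BMx.Fr5
open Cfsg.Agent.BMx.Baer (Act bf)
open Cfsg.Agent.TAB.B.Tr (finB)
open Cfsg.Agent.H819.U33 (g g_append g_nil)

attribute [local instance] fact5

theorem c1_5B : c1 (g w5B) ≤ 6000000 := by
  have h2 := Loc5.cent5_le' (y := BM.KHAll.iso.symm (g wv)) (by rw [MulEquiv.orderOf_eq, order5])
    (by rw [LocAbs.card_cent_map]; exact cent_dvd)
  rwa [LocAbs.card_cent_map] at h2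

theorem mem_N5 {s : BG} (h : s * g wv = g wv * s) : s ∈ normalizer ((zpowers (g wv) : Subgroup BG) : Set BG) := by
  have := finB
  apply centralizer_le_normalizer
  rw [LocAbs.cent_zp]
  exact mem_centralizer_singleton_iff.2 h

theorem gen5_mem (i : Fin 6) : gen5 i ∈ normalizer ((zpowers (g wv) : Subgroup BG) : Set BG) := by
  obtain ⟨-, h, -⟩ := frame5
  exact h i

theorem a5_mem_N (i : Fin 5) : a5 i ∈ normalizer ((zpowers (g wv) : Subgroup BG) : Set BG) := mem_N5 (rel5.cen i)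

theorem six_dvd : 5 ^ 6 ∣ c1 (g wv) := by
  have := finB
  obtain ⟨e, he, h1⟩ := LocAbs.card_norm Nat.prime_five order5
  have h2 := (card_ge rel5 act5 gen5_mem a5_mem_N).1
  have h3 : c1 (g wv) ≤ 6000000 := c1_5B
  have h4 := Nat.mul_le_mul_left (c1 (g wv)) (Nat.le_of_dvd (by norm_num) he)
  rw [h1] at h2
  have h5 := h2.trans h4
  rw [show c1 (g wv) = 6000000 by omega]
  norm_num

theorem exists_act {s : BG} (h : s * g wv = g wv * s) : ∃ X, Act D5 a5 s X := by
  have := finB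
  obtain ⟨-, -, -, -, h1⟩ := frame5
  obtain ⟨ρ, hρ⟩ := rel5.exists_rep act5 (h1.trans (sup_le le_rfl (zpowers_le.2 (a5_mem 4))))
  exact ⟨_, hρ ⟨s, mem_N5 h⟩⟩

theorem act_word {l : List (Fin 6)} {w : List BabyM.Conc.Ltr} {X : Matrix (Fin 5) (Fin 5) (ZMod 5)}
    (h : eqF (l.map wgen5).flatten w = true) (hs : D5.Sim X 1)
    (hx : allB (fun i => Nat.beq (wact l (5 ^ i)) (code (X (Fin.ofNat 5 i)))) 5 = true) : Act D5 a5 (g w) X := by
  have h1 : g w = el gen5 l := by rw [← eq_of_eqF h, g_flatten, List.map_map]; rfl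
  have h2 : ∀ i j : Fin 5, _root_.Cfsg.Agent.BMx.Fr5.vec (5 ^ (i : ℕ)) j = (Pi.single i 1 : Fin 5 → ZMod 5) j := by decide +kernel
  refine rel5.act_of hs fun i => ?_
  have h3 := Nat.eq_of_beq_eq_true (allB_sound hx i i.2)
  rw [Fin.ofNat_val_eq_self] at h3
  rw [h1, ← funext (h2 i), ← vec_code (X i), ← h3]
  exact wact_spec act5 l _

/-- the matrix of the central involution -/
def MC : Matrix (Fin 5) (Fin 5) (ZMod 5) := diagonal ![4, 4, 4, 4, 1]

/-- the matrix of the element of order three -/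
def MU : Matrix (Fin 5) (Fin 5) (ZMod 5) :=
  !![0, 3, 0, 0, 0; 3, 4, 0, 0, 0; 0, 0, 0, 3, 0; 0, 0, 3, 4, 0; 0, 0, 0, 0, 1]

theorem actC : Act D5 a5 (g w2D) MC := act_word gen2D (by unfold Baer.Num.Sim; decide +kernel) (by decide +kernel)

theorem actU : Act D5 a5 (g w3B) MU := act_word gen3B (by unfold Baer.Num.Sim; decide +kernel) (by decide +kernel)

theorem c2_10F : c2 (g w5B) (g w2D) ≤ 9600 := by
  classical
  have := finB
  let e : ZMod 5 × ZMod 5 × ZMod 5 × ZMod 5 → Fin 5 → ZMod 5 := fun x => ![x.1, x.2.1, x.2.2.1, x.2.2.2, 0]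
  have h1 : ∀ x, (bf D5 a5 (e x))⁻¹ * g w2D * bf D5 a5 (e x) = g w2D * bf D5 a5 (e x + e x) := by
    intro x
    have h2 : ∀ a b c d : ZMod 5, (-![a, b, c, d, 0]) ᵥ* MC = ![a, b, c, d, 0] := by (set_option synthInstance.maxSize 100000 in open scoped Cfsg.Agent.Lib.Refl.U in exact Cfsg.Agent.Lib.Refl.of (by decide +kernel))
    have h3 := actC (-e x)
    have h4 := rel5.bf_mul (e x) (e x)
    rw [Baer.Bm_self, mul_zero, Pi.single_zero, add_zero] at h4
    rw [h2, rel5.bf_neg] at h3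
    rw [← h4]
    calc _ = g w2D * ((g w2D)⁻¹ * (bf D5 a5 (e x))⁻¹ * g w2D * bf D5 a5 (e x)) := by group
      _ = _ := by rw [h3]
  have h2 : Function.Injective fun x => g w2D * bf D5 a5 (e x + e x) := by
    intro x y h
    have h3 := rel5.bf_inj (mul_left_cancel h)
    have h4 : ∀ a b : ZMod 5, a + a = b + b → a = b := by decide +kernel
    exact Prod.ext (h4 _ _ (congrFun h3 0)) (Prod.ext (h4 _ _ (congrFun h3 1))
      (Prod.ext (h4 _ _ (congrFun h3 2)) (h4 _ _ (congrFun h3 3))))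
  have h3 := Baer.chain_step (centralizer ({g w5B} : Set BG)) (g w2D)
    (Finset.univ.image fun x => g w2D * bf D5 a5 (e x + e x)) fun o ho => by
      obtain ⟨x, -, rfl⟩ := Finset.mem_image.1 ho
      exact ⟨_, bf_mem (fun i => mem_centralizer_singleton_iff.2 (rel5.cen i)) _, h1 x⟩
  rw [Finset.card_image_of_injective _ h2, Finset.card_univ, Fintype.card_prod, Fintype.card_prod, Fintype.card_prod,
    ZMod.card] at h3
  have h4 : 5 * (5 * (5 * 5)) * c2 (g w5B) (g w2D) ≤ 6000000 := h3.trans c1_5B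
  omega

theorem mat_comm {X : Matrix (Fin 5) (Fin 5) (ZMod 5)} (h4 : Pi.single 4 1 ᵥ* X = Pi.single 4 1) (h : X * MU = MU * X) :
    X * MC = MC * X := by
  have h1 : ∀ j, X 4 j = (Pi.single 4 1 : Fin 5 → ZMod 5) j := fun j => by
    rw [← h4, single_one_vecMul]; rfl
  have h2 : MU *ᵥ (X *ᵥ Pi.single 4 1) = X *ᵥ Pi.single 4 1 := by
    rw [mulVec_mulVec, ← h, ← mulVec_mulVec, show MU *ᵥ Pi.single 4 1 = Pi.single 4 1 by decide +kernel]
  have h3 : X *ᵥ Pi.single 4 1 = ![X 0 4, X 1 4, X 2 4, X 3 4, 1] := by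
    rw [mulVec_single_one]
    funext i
    fin_cases i
    exacts [rfl, rfl, rfl, rfl, h1 4]
  have h5 : ∀ a b c d : ZMod 5, MU *ᵥ ![a, b, c, d, 1] = ![a, b, c, d, 1] → a = 0 ∧ b = 0 ∧ c = 0 ∧ d = 0 := by
    (set_option synthInstance.maxSize 100000 in open scoped Cfsg.Agent.Lib.Refl.U in exact Cfsg.Agent.Lib.Refl.of (by decide +kernel))
  rw [h3] at h2
  obtain ⟨k0, k1, k2, k3⟩ := h5 _ _ _ _ h2
  have h6 : ∀ i j : Fin 5, (![4, 4, 4, 4, 1] : Fin 5 → ZMod 5) i = ![4, 4, 4, 4, 1] j ∨ (i = 4 ∧ j ≠ 4) ∨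
      j = 4 ∧ (i = 0 ∨ i = 1 ∨ i = 2 ∨ i = 3) := by decide +kernel
  ext i j
  rw [MC, mul_diagonal, diagonal_mul, mul_comm]
  rcases h6 i j with h7 | ⟨rfl, h7⟩ | ⟨rfl, rfl | rfl | rfl | rfl⟩
  · rw [h7]
  · rw [h1, Pi.single_eq_of_ne h7, mul_zero, mul_zero]
  · rw [k0, mul_zero, mul_zero]
  · rw [k1, mul_zero, mul_zero]
  · rw [k2, mul_zero, mul_zero]
  · rw [k3, mul_zero, mul_zero]

/-- the centralizer of an element of order 15 contains the involution in its centre -/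
theorem comm_2D {s : BG} (hv : s * g w5B = g w5B * s) (hu : s * g w3B = g w3B * s) : s * g w2D = g w2D * s := by
  have := finB
  obtain ⟨X, hX⟩ := exists_act hv
  have h0 : bf D5 a5 (Pi.single 4 1) = g w5B := bf_a5 4
  have h1 : X * MC = MC * X := mat_comm
    (rel5.bf_inj (by rw [← hX, h0, mul_assoc, ← hv, inv_mul_cancel_left]))
    ((hX.mul actU).unique rel5 (hu ▸ actU.mul hX))
  have h2 : ∀ u, bf D5 a5 u * (s * g w2D * (g w2D * s)⁻¹) = s * g w2D * (g w2D * s)⁻¹ * bf D5 a5 u := by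
    intro u
    have h3 := hX.mul actC u
    rw [h1, ← actC.mul hX u] at h3
    calc _ = s * g w2D * ((s * g w2D)⁻¹ * bf D5 a5 u * (s * g w2D)) * (g w2D * s)⁻¹ := by group
      _ = _ := by rw [h3]; group
  have h3 : s * g w2D * (g w2D * s)⁻¹ ∈ zpowers (g w5B) :=
    (card_ge rel5 act5 gen5_mem a5_mem_N).2 card_N _ ((mem_N5 (h0 ▸ (h2 _).symm) :)) h2
  obtain ⟨n, hn⟩ := mem_zpowers_iff.1 h3
  have h4 : g w2D * g w2D = 1 := by rw [← pow_two, ← orderOf_of_ordF o2D, pow_orderOf_eq_one]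
  have h5 : Commute (g w2D) (g w5B) := q_10F_5 ▸ q_10F_6 ▸ Commute.pow_pow_self _ _ _
  have h6 : s * g w2D * s⁻¹ = g w5B ^ n * g w2D := by rw [hn]; group
  have h7 : (g w5B ^ n) ^ 2 = 1 := by
    calc (g w5B ^ n) ^ 2 = g w5B ^ n * g w5B ^ n * (g w2D * g w2D) := by rw [h4, mul_one, pow_two]
      _ = g w5B ^ n * g w2D * (g w5B ^ n * g w2D) := (h5.zpow_right n).symm.mul_mul_mul_comm _ _
      _ = 1 := by rw [← h6, conj_mul, h4, mul_one, mul_inv_cancel]
  have h8 : (g w5B ^ n) ^ 5 = 1 := by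
    rw [← _root_.zpow_natCast, ← _root_.zpow_mul, mul_comm, _root_.zpow_mul, _root_.zpow_natCast,
      ← orderOf_of_ordF o5B, pow_orderOf_eq_one, _root_.one_zpow]
  have h9 : g w5B ^ n = 1 := by
    calc g w5B ^ n = ((g w5B ^ n) ^ 2) ^ 3 * ((g w5B ^ n) ^ 5)⁻¹ := by group
      _ = 1 := by rw [h7, h8, one_pow, inv_one, mul_one]
  rw [h9, one_mul] at h6
  exact mul_inv_eq_iff_eq_mul.1 h6

theorem c1_10F : c1 (g w10F) ≤ 9600 := by
  have := finB
  exact (c1_le_c2 q_10F_6 q_10F_5).trans c2_10F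

theorem c1_20G : c1 (g w20G) ≤ 480 := by
  have := finB
  exact (c1_le_c2 q_20G_6 q_20G_5).trans (c2_le' com20G orb20G c1_10F (by decide +kernel))

theorem c1_20J : c1 (g w20J) ≤ 80 := by
  have := finB
  exact (c1_le_c2 q_20J_6 q_20J_5).trans (c2_le' com20J orb20J c1_10F (by decide +kernel))

theorem c2_30F : c2 (g w10F) (g w3B) ≤ 120 := c2_le' com30F orb30F c1_10F (by decide +kernel)

theorem c1_30F : c1 (g w30F) ≤ 120 := by
  have := finB
  exact (c1_le_c2 q_30F_21 q_30F_10).trans c2_30F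

theorem c1_15B : c1 (g w15B) ≤ 120 := by
  have := finB
  refine le_trans (card_le_of_le fun s hs => ?_) c2_30F
  have h : Commute s (g w15B) := mem_centralizer_singleton_iff.1 hs
  have h1 : Commute s (g w5B) := q_15B_6 ▸ h.pow_right 6
  have h2 : Commute s (g w3B) := q_15B_10 ▸ h.pow_right 10
  refine ⟨mem_centralizer_singleton_iff.2 ?_, mem_centralizer_singleton_iff.2 h2⟩
  rw [← eq_of_eqF u_5B_2D, g_append]
  exact h1.mul_right (comm_2D h1 h2)

theorem c1_40E : c1 (g w40E) ≤ 40 := by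
  have := finB
  exact (c1_le_c2 q_40E_26 q_40E_25).trans (c2_le com40E orb40E c1_20G (by decide +kernel))

theorem c1_60C : c1 (g w60C) ≤ 60 := by
  have := finB
  exact (c1_le_c2 q_60C_46 q_60C_45).trans (c2_le com60C orb60C c1_30F (by decide +kernel))

theorem c1_25A : c1 (g w25A) ≤ 25 := by
  have h := Loc5.cent25 (x := BM.KHAll.iso.symm (g w25A)) (by rw [MulEquiv.orderOf_eq, orderOf_of_ordF o25A])
  rw [LocAbs.card_cent_map] at h
  exact h.le

theorem ty25A_5 : TyB 18 (g w25A ^ 5) := by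
  classical
  have := finB
  obtain ⟨c, hc⟩ := Loc5.conj_25 (x := BM.KHAll.iso.symm (g w25A)) (y := BM.KHAll.iso.symm (g wv))
    (by rw [MulEquiv.orderOf_eq, orderOf_of_ordF o25A]) (by rw [MulEquiv.orderOf_eq, order5])
    (by rw [LocAbs.card_cent_map]; exact six_dvd)
  obtain ⟨c, rfl⟩ := BM.KHAll.iso.symm.surjective c
  obtain ⟨n, hn⟩ := mem_zpowers_iff.1 (hc.ge (mem_zpowers _))
  rw [← map_inv, ← map_mul, ← map_mul, ← map_zpow, ← map_pow] at hn
  have h1 : g w25A ^ 5 ∈ zpowers (c * g wv * c⁻¹) := mem_zpowers_iff.2 ⟨n, BM.KHAll.iso.symm.injective hn⟩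
  obtain ⟨i, hi, e⟩ := Finset.mem_image.1 (mem_zpowers_iff_mem_range_orderOf.1 h1)
  rw [Finset.mem_range, orderOf_conj', order5] at hi
  have h2 : TyB 18 (c * g wv * c⁻¹) := Ty.conj ty5B c
  have h3 := ord_pow (n := 5) (orderOf_of_ordF o25A) 5 (by decide)
  rw [← e] at h3 ⊢
  interval_cases i
  · rw [pow_zero, orderOf_one] at h3
    norm_num at h3
  all_goals exact ty_pow h2 _ (by decide +kernel)

theorem ty25A : TyB 124 (g w25A) :=
  ty_mk (L := [(5, 18)]) (orderOf_of_ordF o25A) tr25A ty25A_5 (by decide +kernel)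

theorem pw20J : Pw (g w20J) [(2, 52), (5, 16)] :=
  ⟨ty_cj ty10F [] 7 p20J_2 (by decide +kernel),
    ty_cj ty4J [] 1 p20J_5 (by decide +kernel)⟩

theorem ty20J : TyB 105 (g w20J) :=
  ty_mk (a := 0) ord20J (tr_pin c1_20J pw20J (by decide +kernel)) pw20J (by decide +kernel)

theorem pw15B : Pw (g w15B) [(3, 18), (5, 6)] :=
  ⟨ty_cj ty5B [] 3 p15B_3 (by decide +kernel),
    ty_cj ty3B [] 2 p15B_5 (by decide +kernel)⟩

theorem ty15B : TyB 81 (g w15B) :=
  ty_mk (a := 2) ord15B (tr_pin c1_15B pw15B (by decide +kernel)) pw15B (by decide +kernel)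

theorem pw30F : Pw (g w30F) [(2, 81), (3, 52), (5, 27)] :=
  ⟨ty_cj ty15B [] 2 p30F_2 (by decide +kernel),
    ty_cj ty10F [] 3 p30F_3 (by decide +kernel),
    ty_cj ty6I [] 5 p30F_5 (by decide +kernel)⟩

theorem ty30F : TyB 138 (g w30F) :=
  ty_mk (a := -2) ord30F (tr_pin c1_30F pw30F (by decide +kernel)) pw30F (by decide +kernel)

theorem pw40E : Pw (g w40E) [(2, 102), (5, 37)] :=
  ⟨ty_cj ty20G [] 17 p40E_2 (by decide +kernel),
    ty_cj ty8G [] 5 p40E_5 (by decide +kernel)⟩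

theorem ty40E : TyB 156 (g w40E) :=
  ty_mk (a := 0) ord40E (tr_pin c1_40E pw40E (by decide +kernel)) pw40E (by decide +kernel)

theorem pw60C : Pw (g w60C) [(2, 138), (3, 102), (5, 59)] :=
  ⟨ty_cj ty30F [] 17 p60C_2 (by decide +kernel),
    ty_cj ty20G [] 3 p60C_3 (by decide +kernel),
    ty_cj ty12F [] 5 p60C_5 (by decide +kernel)⟩

theorem ty60C : TyB 170 (g w60C) :=
  ty_mk (a := 0) ord60C (tr_pin c1_60C pw60C (by decide +kernel)) pw60C (by decide +kernel)

theorem boxC_5B : BoxCB 18 := box_of ty5B c1_5B (by decide +kernel)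

theorem boxC_10F : BoxCB 52 := box_of ty10F c1_10F (by decide +kernel)

theorem boxC_15B : BoxCB 81 := box_of ty15B c1_15B (by decide +kernel)

theorem boxC_20G : BoxCB 102 := box_of ty20G c1_20G (by decide +kernel)

theorem boxC_20J : BoxCB 105 := box_of ty20J c1_20J (by decide +kernel)

theorem boxC_25A : BoxCB 124 := box_of ty25A c1_25A (by decide +kernel)

theorem boxC_30F : BoxCB 138 := box_of ty30F c1_30F (by decide +kernel)

theorem boxC_40E : BoxCB 156 := box_of ty40E c1_40E (by decide +kernel)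

theorem boxC_60C : BoxCB 170 := box_of ty60C c1_60C (by decide +kernel)

end Cfsg.Agent.TAB.B.D

private theorem dce_8ee8482714e7 : _root_.True := by
  try have : _root_.True := by simp only [_root_.Cfsg.Agent.TAB.B.D.MC.eq_1]
  exact _root_.True.intro
end

-- part: BMx/Fr3
section
prune_inst 0x14000100544000000000000000002004600001000020000128400c00000803438000010034a01000010282202008000000000009001000000000800000000000040202061000a000010000009004000000000000000000000000000000000000000000000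
set_option linter.all false
open scoped Cfsg.Agent.FastGrp

/-!
# The frame at the class 3B of the Baby Monster (helper88, for S5527)

`frame3 : Frame1 (g wy1) gen3 M3`, `gen3 i = g (wgen3 i)`, `card3`.
-/

set_option autoImplicit false
set_option maxRecDepth 100000
set_option linter.unusedSectionVars false

namespace Cfsg.Agent.BMx.Fr3

open Subgroup Matrix Cfsg.Agent.BMx.Baer Cfsg.Agent.H863.U33
open Cfsg.Agent.H819.U33 (g g_append)
open Cfsg.Agent.BabyM.Conc (Ltr)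

/-- the eighteen matrices -/
def M3 : Fin 18 → Matrix (Fin 9) (Fin 9) (ZMod 3) := ![
  !![1, 0, 0, 0, 0, 0, 0, 0, 0; 0, 1, 0, 0, 0, 0, 0, 0, 2; 0, 0, 1, 0, 0, 0, 0, 0, 0; 0, 0, 0, 1, 0, 0, 0, 0, 0; 0, 0, 0, 0, 1, 0, 0, 0, 0; 0, 0, 0, 0, 0, 1, 0, 0, 0; 0, 0, 0, 0, 0, 0, 1, 0, 0; 0, 0, 0, 0, 0, 0, 0, 1, 0; 0, 0, 0, 0, 0, 0, 0, 0, 1],
  !![1, 0, 0, 0, 0, 0, 0, 0, 1; 0, 1, 0, 0, 0, 0, 0, 0, 0; 0, 0, 1, 0, 0, 0, 0, 0, 0; 0, 0, 0, 1, 0, 0, 0, 0, 0; 0, 0, 0, 0, 1, 0, 0, 0, 0; 0, 0, 0, 0, 0, 1, 0, 0, 0; 0, 0, 0, 0, 0, 0, 1, 0, 0; 0, 0, 0, 0, 0, 0, 0, 1, 0; 0, 0, 0, 0, 0, 0, 0, 0, 1],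
  !![1, 0, 0, 0, 0, 0, 0, 0, 0; 0, 1, 0, 0, 0, 0, 0, 0, 0; 0, 0, 1, 0, 0, 0, 0, 0, 0; 0, 0, 0, 1, 0, 0, 0, 0, 1; 0, 0, 0, 0, 1, 0, 0, 0, 0; 0, 0, 0, 0, 0, 1, 0, 0, 0; 0, 0, 0, 0, 0, 0, 1, 0, 0; 0, 0, 0, 0, 0, 0, 0, 1, 0; 0, 0, 0, 0, 0, 0, 0, 0, 1],
  !![1, 0, 0, 0, 0, 0, 0, 0, 0; 0, 1, 0, 0, 0, 0, 0, 0, 0; 0, 0, 1, 0, 0, 0, 0, 0, 2; 0, 0, 0, 1, 0, 0, 0, 0, 0; 0, 0, 0, 0, 1, 0, 0, 0, 0; 0, 0, 0, 0, 0, 1, 0, 0, 0; 0, 0, 0, 0, 0, 0, 1, 0, 0; 0, 0, 0, 0, 0, 0, 0, 1, 0; 0, 0, 0, 0, 0, 0, 0, 0, 1],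
  !![1, 0, 0, 0, 0, 0, 0, 0, 0; 0, 1, 0, 0, 0, 0, 0, 0, 0; 0, 0, 1, 0, 0, 0, 0, 0, 0; 0, 0, 0, 1, 0, 0, 0, 0, 0; 0, 0, 0, 0, 1, 0, 0, 0, 0; 0, 0, 0, 0, 0, 1, 0, 0, 2; 0, 0, 0, 0, 0, 0, 1, 0, 0; 0, 0, 0, 0, 0, 0, 0, 1, 0; 0, 0, 0, 0, 0, 0, 0, 0, 1],
  !![1, 0, 0, 0, 0, 0, 0, 0, 0; 0, 1, 0, 0, 0, 0, 0, 0, 0; 0, 0, 1, 0, 0, 0, 0, 0, 0; 0, 0, 0, 1, 0, 0, 0, 0, 0; 0, 0, 0, 0, 1, 0, 0, 0, 1; 0, 0, 0, 0, 0, 1, 0, 0, 0; 0, 0, 0, 0, 0, 0, 1, 0, 0; 0, 0, 0, 0, 0, 0, 0, 1, 0; 0, 0, 0, 0, 0, 0, 0, 0, 1],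
  !![1, 0, 0, 0, 0, 0, 0, 0, 0; 0, 1, 0, 0, 0, 0, 0, 0, 0; 0, 0, 1, 0, 0, 0, 0, 0, 0; 0, 0, 0, 1, 0, 0, 0, 0, 0; 0, 0, 0, 0, 1, 0, 0, 0, 0; 0, 0, 0, 0, 0, 1, 0, 0, 0; 0, 0, 0, 0, 0, 0, 1, 0, 0; 0, 0, 0, 0, 0, 0, 0, 1, 1; 0, 0, 0, 0, 0, 0, 0, 0, 1],
  !![1, 0, 0, 0, 0, 0, 0, 0, 0; 0, 1, 0, 0, 0, 0, 0, 0, 0; 0, 0, 1, 0, 0, 0, 0, 0, 0; 0, 0, 0, 1, 0, 0, 0, 0, 0; 0, 0, 0, 0, 1, 0, 0, 0, 0; 0, 0, 0, 0, 0, 1, 0, 0, 0; 0, 0, 0, 0, 0, 0, 1, 0, 2; 0, 0, 0, 0, 0, 0, 0, 1, 0; 0, 0, 0, 0, 0, 0, 0, 0, 1],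
  !![2, 0, 0, 0, 0, 0, 0, 0, 0; 0, 2, 0, 0, 0, 0, 0, 0, 0; 0, 0, 2, 0, 0, 0, 0, 0, 0; 0, 0, 0, 2, 0, 0, 0, 0, 0; 0, 0, 0, 0, 2, 0, 0, 0, 0; 0, 0, 0, 0, 0, 2, 0, 0, 0; 0, 0, 0, 0, 0, 0, 2, 0, 0; 0, 0, 0, 0, 0, 0, 0, 2, 0; 0, 0, 0, 0, 0, 0, 0, 0, 1],
  !![1, 0, 0, 0, 0, 0, 0, 0, 0; 0, 1, 0, 0, 0, 0, 0, 0, 0; 0, 0, 1, 0, 0, 0, 0, 0, 0; 0, 0, 0, 1, 0, 0, 0, 0, 0; 0, 0, 0, 0, 2, 0, 0, 0, 0; 0, 0, 0, 0, 0, 2, 0, 0, 0; 0, 0, 0, 0, 0, 0, 2, 0, 0; 0, 0, 0, 0, 0, 0, 0, 2, 0; 0, 0, 0, 0, 0, 0, 0, 0, 1],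
  !![0, 0, 0, 0, 1, 0, 0, 0, 0; 0, 0, 0, 0, 0, 1, 0, 0, 0; 0, 0, 0, 0, 0, 0, 1, 0, 0; 0, 0, 0, 0, 0, 0, 0, 1, 0; 1, 0, 0, 0, 0, 0, 0, 0, 0; 0, 1, 0, 0, 0, 0, 0, 0, 0; 0, 0, 1, 0, 0, 0, 0, 0, 0; 0, 0, 0, 1, 0, 0, 0, 0, 0; 0, 0, 0, 0, 0, 0, 0, 0, 1],
  !![2, 0, 0, 0, 0, 0, 0, 0, 0; 0, 2, 0, 0, 0, 0, 0, 0, 0; 0, 0, 1, 0, 0, 0, 0, 0, 0; 0, 0, 0, 1, 0, 0, 0, 0, 0; 0, 0, 0, 0, 2, 0, 0, 0, 0; 0, 0, 0, 0, 0, 2, 0, 0, 0; 0, 0, 0, 0, 0, 0, 1, 0, 0; 0, 0, 0, 0, 0, 0, 0, 1, 0; 0, 0, 0, 0, 0, 0, 0, 0, 1],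
  !![0, 0, 0, 2, 0, 0, 0, 0, 0; 0, 0, 2, 0, 0, 0, 0, 0, 0; 0, 2, 0, 0, 0, 0, 0, 0, 0; 2, 0, 0, 0, 0, 0, 0, 0, 0; 0, 0, 0, 0, 0, 0, 0, 1, 0; 0, 0, 0, 0, 0, 0, 1, 0, 0; 0, 0, 0, 0, 0, 1, 0, 0, 0; 0, 0, 0, 0, 1, 0, 0, 0, 0; 0, 0, 0, 0, 0, 0, 0, 0, 1],
  !![0, 0, 1, 2, 0, 0, 0, 0, 0; 0, 0, 1, 1, 0, 0, 0, 0, 0; 2, 2, 0, 0, 0, 0, 0, 0, 0; 1, 2, 0, 0, 0, 0, 0, 0, 0; 0, 0, 0, 0, 0, 0, 1, 2, 0; 0, 0, 0, 0, 0, 0, 1, 1, 0; 0, 0, 0, 0, 2, 2, 0, 0, 0; 0, 0, 0, 0, 1, 2, 0, 0, 0; 0, 0, 0, 0, 0, 0, 0, 0, 1],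
  !![0, 1, 0, 0, 0, 0, 0, 0, 0; 2, 0, 0, 0, 0, 0, 0, 0, 0; 0, 0, 0, 2, 0, 0, 0, 0, 0; 0, 0, 1, 0, 0, 0, 0, 0, 0; 0, 0, 0, 0, 0, 1, 0, 0, 0; 0, 0, 0, 0, 2, 0, 0, 0, 0; 0, 0, 0, 0, 0, 0, 0, 2, 0; 0, 0, 0, 0, 0, 0, 1, 0, 0; 0, 0, 0, 0, 0, 0, 0, 0, 1],
  !![0, 0, 1, 0, 0, 0, 0, 0, 0; 0, 0, 1, 2, 0, 0, 0, 0, 0; 0, 2, 0, 0, 0, 0, 0, 0, 0; 2, 1, 0, 0, 0, 0, 0, 0, 0; 0, 0, 0, 0, 1, 1, 0, 0, 0; 0, 0, 0, 0, 2, 0, 0, 0, 0; 0, 0, 0, 0, 0, 0, 1, 1, 0; 0, 0, 0, 0, 0, 0, 0, 1, 0; 0, 0, 0, 0, 0, 0, 0, 0, 1],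
  !![1, 0, 0, 0, 2, 1, 0, 0, 0; 1, 2, 0, 0, 1, 0, 0, 0, 0; 0, 0, 2, 1, 0, 0, 0, 1, 0; 0, 0, 0, 1, 0, 0, 1, 2, 0; 0, 1, 0, 0, 2, 2, 0, 0, 0; 1, 1, 0, 0, 0, 1, 0, 0, 0; 0, 0, 2, 2, 0, 0, 2, 0, 0; 0, 0, 2, 0, 0, 0, 1, 1, 0; 0, 0, 0, 0, 0, 0, 0, 0, 1],
  !![1, 1, 1, 1, 0, 0, 0, 0, 0; 0, 1, 1, 0, 0, 0, 0, 0, 0; 1, 1, 2, 2, 0, 0, 0, 0, 0; 0, 2, 1, 0, 0, 0, 0, 0, 0; 0, 0, 0, 0, 1, 1, 2, 2, 0; 0, 0, 0, 0, 0, 1, 2, 0, 0; 0, 0, 0, 0, 2, 2, 2, 2, 0; 0, 0, 0, 0, 0, 1, 1, 0, 0; 0, 0, 0, 0, 0, 0, 0, 0, 2]]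

/-- the numerical data -/
def D3 : Num 3 9 where
  F := !![0, 1, 0, 0, 0, 0, 0, 0, 0; 2, 0, 0, 0, 0, 0, 0, 0, 0; 0, 0, 0, 2, 0, 0, 0, 0, 0; 0, 0, 1, 0, 0, 0, 0, 0, 0; 0, 0, 0, 0, 0, 1, 0, 0, 0; 0, 0, 0, 0, 2, 0, 0, 0, 0; 0, 0, 0, 0, 0, 0, 0, 2, 0; 0, 0, 0, 0, 0, 0, 1, 0, 0; 0, 0, 0, 0, 0, 0, 0, 0, 0]
  c := ![0, 0, 2, 0, 0, 0, 2, 0, 0]
  h := 2
  l := 8
  R := !![0, 2, 0, 0, 0, 0, 0, 0, 0; 1, 0, 0, 0, 0, 0, 0, 0, 0; 0, 0, 0, 1, 0, 0, 0, 0, 0; 0, 0, 2, 0, 0, 0, 0, 0, 0; 0, 0, 0, 0, 0, 2, 0, 0, 0; 0, 0, 0, 0, 1, 0, 0, 0, 0; 0, 0, 0, 0, 0, 0, 0, 1, 0; 0, 0, 0, 0, 0, 0, 2, 0, 0; 0, 0, 0, 0, 0, 0, 0, 0, 0]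

theorem fact3 : Fact (1 < 3) := ⟨by norm_num⟩

attribute [local instance] fact3

theorem D3_ok : D3.Ok := by
  unfold Num.Ok
  decide +kernel

section abs

variable {G : Type} [Group G] {y : G} {e : Fin 8 → G} {t : G} {w : Fin 6 → G} {k : Fin 2 → G} {n : G}

/-- the generators of the extraspecial group -/
def aa (y : G) (e : Fin 8 → G) : Fin 9 → G := Fin.snoc (α := fun _ => G) e y

theorem aa_l : aa y e D3.l = y := Fin.snoc_last (α := fun _ => G) _ _

theorem aa_cast (i : Fin 8) : aa y e i.castSucc = e i := Fin.snoc_castSucc (α := fun _ => G) _ _ _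

theorem rel (h : TB y e t w k n) : Rel D3 (aa y e) where
  prime := Nat.prime_three
  ok := D3_ok
  pow i := by
    refine Fin.lastCases ?_ (fun i => ?_) i
    · exact (congrArg (· ^ 3) (aa_l (y := y) (e := e))).trans h.y3
    · rw [aa_cast]; exact h.e3 i
  ne := by rw [aa_l]; exact h.y1
  cen i := by
    rw [aa_l]
    refine Fin.lastCases ?_ (fun i => ?_) i
    · rw [show aa y e (Fin.last 8) = y from aa_l]
    · rw [aa_cast]; exact h.ey i
  com i j hij := by
    have h1 : ∀ i j : Fin 8, D3.F i.castSucc j.castSucc = fm i j := by decide +kernel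
    have h2 : ∀ j : Fin 9, D3.F (Fin.last 8) j = 0 := by decide +kernel
    rw [aa_l]
    induction j using Fin.lastCases with
    | last => exact absurd hij (not_lt.2 (Fin.le_last i))
    | cast j =>
      induction i using Fin.lastCases with
      | last =>
        rw [h2, pw_zero, one_mul, aa_cast]
        exact (aa_l (y := y) (e := e)).symm ▸ (h.ey j).symm
      | cast i => rw [h1, aa_cast, aa_cast]; exact h.ee i j

theorem nf_eq (u : Fin 9 → ZMod 3) : Baer.nf (aa y e) u = H863.U33.nf y e (fun i => u i.castSucc) (u 8) := by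
  unfold Baer.nf H863.U33.nf
  simp only [List.ofFn_succ, List.ofFn_zero, List.prod_cons, List.prod_nil, mul_one, mul_assoc]
  rfl

theorem nf_y (h : TB y e t w k n) (v : Fin 8 → ZMod 3) (b c : ZMod 3) :
    H863.U33.nf y e v b * pw y c = H863.U33.nf y e v (b + c) := by
  have h1 := pw_add h.y3 b c
  unfold H863.U33.nf
  rw [mul_assoc]
  exact congrArg _ h1.symm

theorem bf_eq (h : TB y e t w k n) (u : Fin 9 → ZMod 3) :
    bf D3 (aa y e) u = H863.U33.nf y e (fun i => u i.castSucc) (u 8 + D3.q u) := by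
  rw [bf, nf_eq, aa_l, nf_y h]

/-- the check for an outer generator -/
def Chk (X : Matrix (Fin 9) (Fin 9) (ZMod 3)) (μ : ZMod 3) (A : Fin 8 → Fin 8 → ZMod 3) (C : Fin 8 → ZMod 3) : Prop :=
  D3.Sim X μ ∧ D3.q (X 8) = 0 ∧ ∀ j : Fin 8, (∀ i : Fin 8, X j.castSucc i.castSucc = A j i) ∧
    X j.castSucc 8 + D3.q (X j.castSucc) = C j + μ * D3.c j.castSucc

theorem act_of_chk (h : TB y e t w k n) {s : G} {X : Matrix (Fin 9) (Fin 9) (ZMod 3)} {μ : ZMod 3}
    {A : Fin 8 → Fin 8 → ZMod 3} {C : Fin 8 → ZMod 3} (hc : Chk X μ A C) (hy : s⁻¹ * y * s = pw y μ)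
    (he : ∀ j, s⁻¹ * e j * s = H863.U33.nf y e (A j) (C j)) : Act D3 (aa y e) s X := by
  refine (rel h).act_of hc.1 fun i => ?_
  induction i using Fin.lastCases with
  | last =>
    have e1 : X (Fin.last 8) = Pi.single D3.l μ := by
      funext j
      rw [Pi.single_apply]
      exact hc.1.1 j
    rw [e1, show Fin.last 8 = D3.l from rfl, (rel h).bf_l, (rel h).bf_l, aa_l, pw_one, hy]
  | cast j =>
    obtain ⟨h1, h2⟩ := hc.2.2 j
    rw [bf_single, aa_l, aa_cast, bf_eq h, h2, funext h1, ← nf_y h, ← he, ← pw_pw h.y3, ← hy, ← conj_pw]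
    group

/-- the generators -/
def gn (y : G) (e : Fin 8 → G) (t : G) (w : Fin 6 → G) (k : Fin 2 → G) (n : G) : Fin 18 → G :=
  ![e 0, e 1, e 2 * y * y, e 3, e 4, e 5, e 6 * y * y, e 7, t, w 0, w 1, w 2, w 3, w 4, w 5, k 0, k 1, n]

theorem inner_chk : ∀ (j : Fin 8) (a b : Fin 9), M3 (j.castLE (by norm_num)) a b =
    (if a = b then 1 else 0) + if b = D3.l then (D3.Bm *ᵥ Pi.single j.castSucc 1) a else 0 := by
  have h : ∀ (j : Fin 8) (b a : Fin 9), M3 (j.castLE (by norm_num)) a b =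
      (if a = b then (1 : ZMod 3) else 0) + if b = 8 then D3.Bm a j.castSucc else 0 := by decide +kernel
  intro j a b
  rw [h, mulVec, dotProduct_single, mul_one]
  rfl

theorem gn_inner (j : Fin 8) : gn y e t w k n (j.castLE (by norm_num)) = bf D3 (aa y e) (Pi.single j.castSucc 1) := by
  rw [bf_single, aa_l, aa_cast]
  have h0 : ∀ x : G, x = x * pw y (0 : ZMod 3) := fun x => by rw [pw_zero, mul_one]
  have h2 : ∀ x : G, x * y * y = x * pw y (2 : ZMod 3) := fun x => by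
    rw [show pw y (2 : ZMod 3) = y ^ 2 from rfl, pow_two, mul_assoc]
  fin_cases j
  exacts [h0 _, h0 _, h2 _, h0 _, h0 _, h0 _, h2 _, h0 _]

theorem chk_t : Chk (M3 8) 1 Mt Ct := by unfold Chk Num.Sim; (delta Cfsg.Agent.BMx.Baer.Num.Bm Cfsg.Agent.BMx.Baer.Num.q; set_option synthInstance.maxSize 100000 in exact Cfsg.Agent.Lib.Refl.of (by decide +kernel))

theorem chk_w : ∀ a : Fin 6, Chk (M3 ⟨9 + a, by omega⟩) 1 (Mw a) (Cw a) := by unfold Chk Num.Sim; (delta Cfsg.Agent.BMx.Baer.Num.Bm Cfsg.Agent.BMx.Baer.Num.q; set_option synthInstance.maxSize 100000 in exact Cfsg.Agent.Lib.Refl.of (by decide +kernel))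

theorem chk_k : ∀ c : Fin 2, Chk (M3 ⟨15 + c, by omega⟩) 1 (Mk c) (Ck c) := by unfold Chk Num.Sim; (delta Cfsg.Agent.BMx.Baer.Num.Bm Cfsg.Agent.BMx.Baer.Num.q; set_option synthInstance.maxSize 100000 in exact Cfsg.Agent.Lib.Refl.of (by decide +kernel))

theorem chk_n : Chk (M3 17) 2 Mn Cn := by unfold Chk Num.Sim; (delta Cfsg.Agent.BMx.Baer.Num.Bm Cfsg.Agent.BMx.Baer.Num.q; set_option synthInstance.maxSize 100000 in exact Cfsg.Agent.Lib.Refl.of (by decide +kernel))

theorem act_gn (h : TB y e t w k n) (i : Fin 18) : Act D3 (aa y e) (gn y e t w k n i) (M3 i) := by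
  have hc : ∀ s : G, s * y = y * s → s⁻¹ * y * s = pw y (1 : ZMod 3) := fun s hs => by
    rw [pw_one, mul_assoc, ← hs, inv_mul_cancel_left]
  have h1 : ∀ j : Fin 8, Act D3 (aa y e) (gn y e t w k n (j.castLE (by norm_num))) (M3 (j.castLE (by norm_num))) := by
    intro j
    rw [gn_inner]
    exact (rel h).act_bf (inner_chk j)
  have h2 := fun a => act_of_chk h (chk_w a) (hc _ (h.wy a)) (h.we a)
  have h3 := fun c => act_of_chk h (chk_k c) (hc _ (h.ky c)) (h.ke c)
  have h4 : n⁻¹ * y * n = pw y (2 : ZMod 3) := by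
    rw [h.ny, show pw y (2 : ZMod 3) = y ^ 2 from rfl, inv_eq_iff_mul_eq_one, ← pow_succ', h.y3]
  fin_cases i
  exacts [h1 0, h1 1, h1 2, h1 3, h1 4, h1 5, h1 6, h1 7, act_of_chk h chk_t (hc _ h.ty) h.te, h2 0, h2 1, h2 2, h2 3,
    h2 4, h2 5, h3 0, h3 1, act_of_chk h chk_n h4 h.ne]

theorem M3_last : ∀ i : Fin 18, ∀ j, M3 i D3.l j = if j = D3.l then M3 i 8 8 else 0 := by decide +kernel

theorem y_mem (h : TB y e t w k n) : y ∈ closure (Set.range (gn y e t w k n)) := by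
  have h0 : e 0 ∈ closure (Set.range (gn y e t w k n)) := subset_closure ⟨0, rfl⟩
  have h1 : e 1 ∈ closure (Set.range (gn y e t w k n)) := subset_closure ⟨1, rfl⟩
  have h2 := h.ee 0 1
  rw [show (fm 0 1).val = 1 from rfl, pow_one] at h2
  have h3 : y = e 0 * e 1 * (e 0)⁻¹ * (e 1)⁻¹ := by rw [h2]; group
  have h4 := mul_mem (mul_mem (mul_mem h0 h1) (inv_mem h0)) (inv_mem h1)
  rwa [← h3] at h4

theorem KK_le (h : TB y e t w k n) : KK y e t w k ≤ closure (Set.range (gn y e t w k n)) := by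
  have hy := y_mem h
  have hg : ∀ i, gn y e t w k n i ∈ closure (Set.range (gn y e t w k n)) := fun i => subset_closure ⟨i, rfl⟩
  have h2 : ∀ x : G, x * y * y ∈ closure (Set.range (gn y e t w k n)) → x ∈ closure (Set.range (gn y e t w k n)) :=
    fun x hx => by
      have := mul_mem (mul_mem hx (inv_mem hy)) (inv_mem hy)
      rwa [mul_inv_cancel_right, mul_inv_cancel_right] at this
  rw [KK, closure_le]
  rintro x ((((rfl | ⟨j, rfl⟩) | rfl) | ⟨a, rfl⟩) | ⟨c, rfl⟩)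
  · exact hy
  · fin_cases j
    exacts [hg 0, hg 1, h2 _ (hg 2), hg 3, hg 4, hg 5, h2 _ (hg 6), hg 7]
  · exact hg 8
  · fin_cases a
    exacts [hg 9, hg 10, hg 11, hg 12, hg 13, hg 14]
  · fin_cases c
    exacts [hg 15, hg 16]

theorem norm_cases [Finite G] (h : TB y e t w k n) {s : G} (hs : s ∈ normalizer ((zpowers y : Subgroup G) : Set G)) :
    s⁻¹ * y * s = y ∨ s⁻¹ * y * s = y⁻¹ := by
  have h1 : s⁻¹ * y * s⁻¹⁻¹ ∈ zpowers y := (mem_normalizer_iff.1 (inv_mem hs) y).1 (mem_zpowers y)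
  rw [inv_inv] at h1
  obtain ⟨i, hi⟩ := mem_powers_iff_mem_zpowers.2 h1
  have hi' : y ^ (i % 3) = s⁻¹ * y * s := by rw [← pow_eq_pow_mod i h.y3]; exact hi
  have h3 : i % 3 = 0 ∨ i % 3 = 1 ∨ i % 3 = 2 := by omega
  rcases h3 with h3 | h3 | h3 <;> rw [h3] at hi'
  · exfalso
    apply h.y1
    calc y = s * (s⁻¹ * y * s) * s⁻¹ := by group
      _ = 1 := by rw [← hi']; simp
  · left; rw [← hi', pow_one]
  · right; rw [← hi', eq_inv_iff_mul_eq_one, ← pow_succ, h.y3]

theorem frame_abs [Finite G] (h : TB y e t w k n) (hc : Nat.card (centralizer ({y} : Set G)) ≤ 65303470080) :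
    Frame1 y (gn y e t w k n) M3 := by
  have hC := (H604.U33.StIm.stC' H604.RB.ThreeB.stNF H604.RB.ThreeB.stO h hc).1
  have hN : normalizer ((zpowers y : Subgroup G) : Set G) ≤ closure (Set.range (gn y e t w k n)) := by
    intro s hs
    have key : ∀ x : G, x⁻¹ * y * x = y → x ∈ closure (Set.range (gn y e t w k n)) := fun x hx => by
      apply KK_le h
      rw [← hC, mem_centralizer_singleton_iff]
      calc x * y = x * (x⁻¹ * y * x) := by rw [hx]
        _ = y * x := by group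
    rcases norm_cases h hs with h1 | h1
    · exact key s h1
    · have h2 := key (s * n) (by
        calc _ = n⁻¹ * (s⁻¹ * y * s) * n := by group
          _ = (n⁻¹ * y * n)⁻¹ := by rw [h1]; group
          _ = y := by rw [h.ny, inv_inv])
      have h3 : n ∈ closure (Set.range (gn y e t w k n)) := subset_closure ⟨17, rfl⟩
      have h4 := mul_mem h2 (inv_mem h3)
      rwa [mul_inv_cancel_right] at h4
  obtain ⟨ρ, hρ⟩ := (rel h).exists_rep (act_gn h) hN
  have hm : ∀ i, gn y e t w k n i ∈ normalizer ((zpowers y : Subgroup G) : Set G) := fun i => by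
    have := (act_gn h i).mem_normalizer (rel h) (M3_last i)
    rwa [aa_l] at this
  refine ⟨ρ, hm, fun s => ⟨fun hs => ?_, fun hs => ?_⟩, fun i => (hρ _).unique (rel h) (act_gn h i),
    hN.trans le_sup_left⟩
  · have h1 := hρ s
    rw [hs, act_one_iff] at h1
    refine H604.U33.CentP.cent_PP H604.RB.ThreeB.stNF H604.RB.ThreeB.stAct H604.RB.ThreeB.stO h hc fun p hp => ?_
    obtain ⟨v, b, rfl⟩ := ((H604.RB.ThreeB.stNF h).1 p).1 hp
    have h2 := h1 (Fin.snoc (α := fun _ => ZMod 3) v 0)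
    have h3 := h1 (Pi.single D3.l 1)
    rw [(rel h).bf_l, aa_l, pw_one] at h3
    rw [bf_eq h] at h2
    simp only [Fin.snoc_castSucc] at h2
    generalize (Fin.snoc (α := fun _ => ZMod 3) v 0 : Fin 9 → ZMod 3) 8 + D3.q (Fin.snoc (α := fun _ => ZMod 3) v 0) = c
      at h2
    have h4 : Commute (pw y (b - c)) (s : G) := (show Commute y (s : G) from h3).pow_left _
    have h5 := (show Commute (H863.U33.nf y e v c) (s : G) from h2).mul_left h4
    rw [nf_y h, add_sub_cancel] at h5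
    exact h5
  · exact (hρ s).unique (rel h) ((rel h).act_y (by rw [aa_l]; exact hs))

end abs

/-- the words of the generators -/
def wgen3 : Fin 18 → List Ltr :=
  ![we 0, we 1, we 2 ++ wy1 ++ wy1, we 3, we 4, we 5, we 6 ++ wy1 ++ wy1, we 7, wt, ww 0, ww 1, ww 2, ww 3, ww 4, ww 5,
    wk 0, wk 1, wn]

/-- the generators in the model -/
noncomputable def gen3 (i : Fin 18) : H819.U33.G := g (wgen3 i)

theorem gen3_eq : gen3 = gn (g wy1) eG (g wt) wG kG (g wn) := by
  have h : ∀ v : List Ltr, g (v ++ wy1 ++ wy1) = g v * g wy1 * g wy1 := fun v => by rw [g_append, g_append]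
  funext i
  fin_cases i
  exacts [rfl, rfl, h _, rfl, rfl, rfl, h _, rfl, rfl, rfl, rfl, rfl, rfl, rfl, rfl, rfl, rfl, rfl]

/-- **The frame at 3B.** -/
theorem frame3 : Frame1 (g wy1) gen3 M3 := by
  have := H604.RB.ThreeB.finG
  rw [gen3_eq]
  exact frame_abs tb H604.RB.ThreeB.card_y_le

theorem order3 : orderOf (g wy1) = 3 := H604.RB.ThreeB.order_y

end Cfsg.Agent.BMx.Fr3

private theorem dce_8f4cbd580c52 : _root_.True := by
  try have : _root_.True := by simp only [_root_.Cfsg.Agent.H863.U33.KK.eq_1]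
  exact _root_.True.intro
end

-- part: TAB/B/C3/Act
section
prune_inst 0x10000100404000000000000000002060000001020040000000000800084800410000000030b01010018000a040080040000000090000000000000200000000000000000000000000000000000000000000000000000000000000000000000000000000000
set_option linter.all false
open scoped Cfsg.Agent.FastGrp

/-!
# The normalizer of a subgroup of type 3B of the Baby Monster acts on 6561 points (helper84, TAB)

`pi : NN →* Perm (Fin 6561)` has the kernel `⟨y⟩` and preserves the graph `row`; `cent_two`, `cent_three` bound the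
centralizers of the elements which have `y` as a power.
-/

set_option autoImplicit false
set_option maxRecDepth 100000

namespace Cfsg.Agent.TAB.B.C3

open Subgroup Matrix Equiv Cfsg.Agent.BMx Cfsg.Agent.BMx.Fr3 Cfsg.Agent.BMx.Fast Cfsg.Agent.H123.Cls
  Cfsg.Agent.Lib.BitNet
open Cfsg.Agent.H819.U33 (G g g_append)
open Cfsg.Agent.H863.U33 (wy1)
open Cfsg.Agent.BabyM.Conc (Ltr)

/-- the alternating form on the columns -/
def Jm : Mt := !![0, 2, 0, 0, 0, 0, 0, 0, 0; 1, 0, 0, 0, 0, 0, 0, 0, 0; 0, 0, 0, 1, 0, 0, 0, 0, 0;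
  0, 0, 2, 0, 0, 0, 0, 0, 0; 0, 0, 0, 0, 0, 2, 0, 0, 0; 0, 0, 0, 0, 1, 0, 0, 0, 0; 0, 0, 0, 0, 0, 0, 0, 1, 0;
  0, 0, 0, 0, 0, 0, 2, 0, 0; 0, 0, 0, 0, 0, 0, 0, 0, 0]

/-- the action on the columns -/
def act (X : Mt) (u : Vc) : Vc := X 8 8 • X *ᵥ u

/-- the properties of the matrices -/
structure Good (X : Mt) : Prop where
  sh : ∀ j, j ≠ 8 → X 8 j = 0
  mu : X 8 8 * X 8 8 = 1
  sm : ∀ i j, i ≠ 8 → j ≠ 8 → (Xᵀ * Jm * X) i j = X 8 8 * Jm i j
  om : ∀ v : Vc, v 8 = 0 → Om.testBit (cd v) = true → Om.testBit (cd (act X v)) = true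

theorem Good.last {X : Mt} (h : Good X) (u : Vc) : (X *ᵥ u) 8 = X 8 8 * u 8 := by
  show ∑ j, X 8 j * u j = _
  exact Finset.sum_eq_single 8 (fun j _ hj => by rw [h.sh j hj, zero_mul]) fun h1 => absurd (Finset.mem_univ _) h1

theorem Good.act_last {X : Mt} (h : Good X) (u : Vc) : act X u 8 = u 8 := by
  show X 8 8 * (X *ᵥ u) 8 = _
  rw [h.last, ← mul_assoc, h.mu, one_mul]

theorem Good.row_mul {X : Mt} (h : Good X) (Y : Mt) (j : Fin 9) : (X * Y) 8 j = X 8 8 * Y 8 j := by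
  rw [Matrix.mul_apply]
  exact Finset.sum_eq_single 8 (fun k _ hk => by rw [h.sh k hk, zero_mul]) fun h1 => absurd (Finset.mem_univ _) h1

theorem Good.act_mul {X : Mt} (h : Good X) (Y : Mt) (u : Vc) : act (X * Y) u = act X (act Y u) := by
  unfold act
  rw [h.row_mul, Matrix.mulVec_smul, Matrix.mulVec_mulVec, smul_smul]

theorem act_one (u : Vc) : act 1 u = u := by
  unfold act
  rw [Matrix.one_mulVec, Matrix.one_apply_eq, one_smul]

theorem act_sub (X : Mt) (u v : Vc) : act X (u - v) = act X u - act X v := by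
  unfold act
  rw [Matrix.mulVec_sub, smul_sub]

theorem good_one : Good 1 where
  sh j hj := Matrix.one_apply_ne hj.symm
  mu := by rw [Matrix.one_apply_eq, one_mul]
  sm i j _ _ := by rw [Matrix.transpose_one, Matrix.one_mul, Matrix.mul_one, Matrix.one_apply_eq, one_mul]
  om v _ h := by rwa [act_one]

theorem Good.mul {X Y : Mt} (hX : Good X) (hY : Good Y) : Good (X * Y) where
  sh j hj := by rw [hX.row_mul, hY.sh j hj, mul_zero]
  mu := by rw [hX.row_mul, mul_mul_mul_comm, hX.mu, hY.mu, one_mul]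
  sm i j hi hj := by
    have h1 : (X * Y)ᵀ * Jm * (X * Y) = Yᵀ * (Xᵀ * Jm * X) * Y := by
      simp only [Matrix.transpose_mul, Matrix.mul_assoc]
    rw [h1, hX.row_mul, mul_assoc (X 8 8), ← hY.sm i j hi hj, Matrix.mul_apply, Matrix.mul_apply, Finset.mul_sum]
    refine Finset.sum_congr rfl fun b _ => ?_
    by_cases hb : b = 8
    · rw [hb, hY.sh j hj, mul_zero, mul_zero, mul_zero]
    · rw [← mul_assoc (X 8 8)]
      refine congrArg (· * Y b j) ?_
      rw [Matrix.mul_apply, Matrix.mul_apply, Finset.mul_sum]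
      refine Finset.sum_congr rfl fun a _ => ?_
      by_cases ha : a = 8
      · rw [ha, Matrix.transpose_apply, hY.sh i hi, zero_mul, zero_mul, mul_zero]
      · rw [hX.sm a b ha hb, mul_left_comm]
  om v hv h := by
    rw [hX.act_mul]
    exact hX.om _ (by rw [hY.act_last, hv]) (hY.om v hv h)

/-- the columns of the generators -/
def Cg : List (List ℕ) := [[1, 64, 4096, 262144, 16777216, 1073741824, 68719476736, 4398046511104, 281474976710784],
  [1, 64, 4096, 262144, 16777216, 1073741824, 68719476736, 4398046511104, 281474976710657],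
  [1, 64, 4096, 262144, 16777216, 1073741824, 68719476736, 4398046511104, 281474976972800],
  [1, 64, 4096, 262144, 16777216, 1073741824, 68719476736, 4398046511104, 281474976718848],
  [1, 64, 4096, 262144, 16777216, 1073741824, 68719476736, 4398046511104, 281477124194304],
  [1, 64, 4096, 262144, 16777216, 1073741824, 68719476736, 4398046511104, 281474993487872],
  [1, 64, 4096, 262144, 16777216, 1073741824, 68719476736, 4398046511104, 285873023221760],
  [1, 64, 4096, 262144, 16777216, 1073741824, 68719476736, 4398046511104, 281612415664128],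
  [2, 128, 8192, 524288, 33554432, 2147483648, 137438953472, 8796093022208, 281474976710656],
  [1, 64, 4096, 262144, 33554432, 2147483648, 137438953472, 8796093022208, 281474976710656],
  [16777216, 1073741824, 68719476736, 4398046511104, 1, 64, 4096, 262144, 281474976710656],
  [2, 128, 4096, 262144, 33554432, 2147483648, 68719476736, 4398046511104, 281474976710656],
  [524288, 8192, 128, 2, 4398046511104, 68719476736, 1073741824, 16777216, 281474976710656],
  [270336, 532480, 65, 66, 4535485464576, 8933531975680, 1090519040, 1107296256, 281474976710656],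
  [128, 1, 262144, 8192, 2147483648, 16777216, 4398046511104, 137438953472, 281474976710656],
  [524288, 270336, 65, 128, 2164260864, 16777216, 68719476736, 4466765987840, 281474976710656],
  [1073741889, 1090519168, 8933531983872, 137439219712, 33554498, 1107296257, 4535485726720, 4398047039488, 281474976710656],
  [4097, 528449, 270401, 8193, 137455730688, 4536575983616, 4537666502656, 137472507904, 562949953421312]]

/-- the columns of the last generator, with the sign changed -/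
def Cn : List ℕ := [8194, 270466, 528514, 4098, 68753031168, 8866993537024, 8865903017984, 68736253952, 281474976710656]

theorem rp_gen (i : Fin 18) : Rp (Cg.getD i []) (M3 i) := by
  have h1 : ∀ i : Fin 18, (Cg.getD i []).length = 9 := by decide +kernel
  have h2 : ∀ i : Fin 18, ∀ c ∈ Cg.getD i [], out 64 9 c = c := by decide +kernel
  have h3 : ∀ i : Fin 18, ∀ a b : Fin 9, (M3 i a b).val = fld 6 ((Cg.getD i []).getD b 0) a := by
    decide +kernel
  exact Rp.of_chk (h1 i) (h2 i) fun a b => by rw [← h3, ZMod.natCast_zmod_val]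

theorem rp_n : Rp Cn (M3 17 8 8 • M3 17) := by
  have h : ∀ a b : Fin 9, ((fld 6 (Cn.getD b 0) a : ℕ) : ZMod 3) = M3 17 8 8 * M3 17 a b := by decide +kernel
  exact Rp.of_chk rfl (by decide +kernel) h

theorem chkO_gen : allN (fun i => chkO (Cg.getD i [])) 17 = true := by decide +kernel

theorem chkO_n : chkO Cn = true := by decide +kernel

theorem good_gen (i : Fin 18) : Good (M3 i) := by
  have h1 : ∀ i : Fin 18, (∀ j, j ≠ 8 → M3 i 8 j = 0) ∧ M3 i 8 8 * M3 i 8 8 = 1 ∧ (i ≠ 17 → M3 i 8 8 = 1) := by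
    decide +kernel
  have h2 : ∀ i : Fin 18, ∀ a b : Fin 9, a ≠ 8 → b ≠ 8 →
      ∑ l, (∑ k, M3 i k a * Jm k l) * M3 i l b = M3 i 8 8 * Jm a b := by decide +kernel
  refine ⟨(h1 i).1, (h1 i).2.1, h2 i, fun v hv h => ?_⟩
  unfold act
  by_cases hi : i = 17
  · rw [hi, ← Matrix.smul_mulVec]
    exact inv_of_chkO rp_n chkO_n hv h
  · rw [(h1 i).2.2 hi, one_smul]
    exact inv_of_chkO (rp_gen i) ((allN_iff _ _).1 chkO_gen i (by
      have := i.2
      have : (i : ℕ) ≠ 17 := fun h3 => hi (Fin.ext h3)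
      omega)) hv h

/-- the element of type 3B -/
noncomputable abbrev yy : G := g wy1

/-- the normalizer -/
noncomputable abbrev NN : Subgroup G := normalizer ((zpowers yy : Subgroup G) : Set G)

/-- the matrix representation -/
noncomputable def rho : NN →* Mt := frame3.choose

theorem gen_mem (i : Fin 18) : gen3 i ∈ NN := frame3.choose_spec.choose i

theorem rho_ker (s : NN) : rho s = 1 ↔ (s : G) ∈ zpowers yy := frame3.choose_spec.choose_spec.1 s

theorem rho_gen (i : Fin 18) : rho ⟨gen3 i, gen_mem i⟩ = M3 i := frame3.choose_spec.choose_spec.2.1 i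

theorem NN_le : NN ≤ closure (Set.range gen3) ⊔ zpowers yy := frame3.choose_spec.choose_spec.2.2

theorem finG : Finite G := H604.RB.ThreeB.finG

theorem good_rho (s : NN) : Good (rho s) := by
  have := finG
  let T : Subgroup NN :=
    { carrier := {s | Good (rho s)}
      one_mem' := by show Good (rho 1); rw [map_one]; exact good_one
      mul_mem' := fun {a b} ha hb => by show Good (rho (a * b)); rw [map_mul]; exact Good.mul ha hb
      inv_mem' := fun {a} ha => by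
        show Good (rho a⁻¹)
        have h1 : ∀ n : ℕ, Good (rho (a ^ n)) := fun n => by
          induction n with
          | zero => rw [pow_zero, map_one]; exact good_one
          | succ n ih => rw [pow_succ, map_mul]; exact ih.mul ha
        have h2 : a⁻¹ = a ^ (orderOf a - 1) := by
          rw [inv_eq_iff_mul_eq_one, ← pow_succ', Nat.sub_add_cancel (orderOf_pos a), pow_orderOf_eq_one]
        rw [h2]
        exact h1 _ }
  have h1 : closure (Set.range gen3) ⊔ zpowers yy ≤ T.map NN.subtype := by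
    refine sup_le ((closure_le _).2 ?_) fun a ha => ?_
    · rintro _ ⟨i, rfl⟩
      exact ⟨⟨gen3 i, gen_mem i⟩, by show Good _; rw [rho_gen]; exact good_gen i, rfl⟩
    · refine ⟨⟨a, le_normalizer ha⟩, ?_, rfl⟩
      show Good _
      rw [(rho_ker _).2 ha]
      exact good_one
  obtain ⟨t, ht, h2⟩ := h1 (NN_le s.2)
  rw [← show t = s from Subtype.ext h2]
  exact ht

theorem pt_last (p : Fin 6561) : pt p 8 = 1 := by rw [pt_eq p.2, if_pos rfl]

/-- the action on the points -/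
noncomputable def sm (s : NN) (p : Fin 6561) : Fin 6561 := ⟨cd (act (rho s) (pt p)), cd_lt _⟩

theorem pt_sm (s : NN) (p : Fin 6561) : pt (sm s p) = act (rho s) (pt p) :=
  pt_cd (by rw [(good_rho s).act_last, pt_last])

theorem sm_mul (s t : NN) (p : Fin 6561) : sm (s * t) p = sm s (sm t p) := by
  apply Fin.ext
  show cd _ = cd _
  rw [pt_sm, map_mul, (good_rho s).act_mul]

theorem sm_one (p : Fin 6561) : sm 1 p = p := by
  apply Fin.ext
  show cd _ = _
  rw [map_one, act_one, cd_pt p.2]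

/-- the permutation representation -/
noncomputable def pi : NN →* Perm (Fin 6561) where
  toFun s := ⟨sm s, sm s⁻¹, fun p => by rw [← sm_mul, inv_mul_cancel, sm_one],
    fun p => by rw [← sm_mul, mul_inv_cancel, sm_one]⟩
  map_one' := Equiv.ext sm_one
  map_mul' s t := Equiv.ext (sm_mul s t)

theorem pi_apply (s : NN) (p : Fin 6561) : pi s p = sm s p := rfl

theorem pi_congr {s t : NN} (h : rho s = rho t) : pi s = pi t := by
  ext p
  show cd _ = cd _
  rw [h]

theorem pi_aut (s : NN) : pi s ∈ Aut 6561 row := by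
  have key : ∀ (s : NN) (u v : Fin 6561), (row u).testBit v = true → (row (sm s u)).testBit (sm s v) = true := by
    intro s u v h
    rw [testBit_row u.2 v.2] at h
    rw [testBit_row (sm s u).2 (sm s v).2, pt_sm, pt_sm, ← act_sub]
    exact (good_rho s).om _ (by rw [Pi.sub_apply, pt_last, pt_last, sub_self]) h
  intro u v
  rw [Bool.eq_iff_iff]
  refine ⟨fun h => ?_, key s u v⟩
  have h1 := key s⁻¹ _ _ h
  rwa [pi_apply, pi_apply, ← sm_mul, ← sm_mul, inv_mul_cancel, sm_one, sm_one] at h1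

theorem pi_ker {s : NN} (h : pi s = 1) : (s : G) ∈ zpowers yy := by
  rw [← rho_ker]
  have hg := good_rho s
  have h1 : ∀ u : Vc, u 8 = 1 → act (rho s) u = u := fun u hu => by
    have h2 := pt_sm s ⟨cd u, cd_lt u⟩
    rw [← pi_apply, h, Perm.one_apply, pt_cd hu] at h2
    exact h2.symm
  generalize rho s = X at hg h1
  have h2 : ∀ j : Fin 9, act X (Pi.single j 1) = Pi.single j 1 := fun j => by
    by_cases hj : j = 8
    · exact h1 _ (by rw [hj, Pi.single_eq_same])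
    · have h3 := act_sub X (Pi.single j 1 + Pi.single 8 1) (Pi.single 8 1)
      rw [h1 (Pi.single 8 1) (Pi.single_eq_same _ _), h1 (Pi.single j 1 + Pi.single 8 1) (by
        rw [Pi.add_apply, Pi.single_eq_same, Pi.single_eq_of_ne (Ne.symm hj), zero_add]), add_sub_cancel_right] at h3
      exact h3
  have h3 : ∀ i j : Fin 9, X 8 8 * X i j = (1 : Mt) i j := fun i j => by
    have h4 := congrFun (h2 j) i
    unfold act at h4
    rw [Matrix.mulVec_single_one, Pi.smul_apply, smul_eq_mul, Pi.single_apply] at h4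
    rw [Matrix.one_apply]
    exact h4
  have h4 : X = X 8 8 • (1 : Mt) := by
    ext i j
    rw [Matrix.smul_apply, ← h3, smul_eq_mul, ← mul_assoc, hg.mu, one_mul]
  have h5 := hg.sm 0 1 (by decide) (by decide)
  have h6 : Xᵀ * Jm * X = Jm := by
    rw [h4, Matrix.transpose_smul, Matrix.transpose_one, Matrix.smul_mul, Matrix.one_mul, Matrix.mul_smul,
      Matrix.mul_one, smul_smul, hg.mu, one_smul]
  rw [h6, show Jm 0 1 = 2 from rfl] at h5
  have h7 : ∀ a : ZMod 3, 2 = a * 2 → a = 1 := by decide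
  rw [h4, h7 _ h5, one_smul]

theorem card_ker : Nat.card pi.ker ≤ 3 := by
  have := finG
  rw [← order3, ← Nat.card_zpowers]
  exact Nat.card_le_card_of_injective (fun a => ⟨a.1.1, pi_ker a.2⟩) fun a b h =>
    Subtype.ext (Subtype.ext (congrArg Subtype.val h :))

/-! ### Words in the generators -/

/-- the value in the group -/
noncomputable def evN (w : List (Fin 18)) : NN := (w.map fun i => (⟨gen3 i, gen_mem i⟩ : NN)).prod

/-- the word in the letters of the model -/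
noncomputable def flat (w : List (Fin 18)) : List Ltr :=
  List.rec (motive := fun _ => List Ltr) [] (fun i _ ih => wgen3 i ++ ih) w

/-- the columns -/
noncomputable def evC (w : List (Fin 18)) : List ℕ :=
  List.rec (motive := fun _ => List ℕ) oneC (fun i _ ih => mulC (Cg.getD i []) ih) w

theorem g_flat (w : List (Fin 18)) : g (flat w) = evN w := by
  induction w with
  | nil => exact H819.U33.g_nil
  | cons i w ih =>
    show g (wgen3 i ++ flat w) = _
    rw [g_append, ih]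
    rfl

theorem rp_ev (w : List (Fin 18)) : Rp (evC w) (rho (evN w)) := by
  induction w with
  | nil =>
    show Rp oneC (rho 1)
    rw [map_one]
    exact rp_one
  | cons i w ih =>
    show Rp (mulC (Cg.getD i []) (evC w)) (rho (⟨gen3 i, gen_mem i⟩ * evN w :))
    rw [map_mul, rho_gen]
    exact (rp_gen i).mul ih

theorem evN_append (v w : List (Fin 18)) : evN (v ++ w) = evN v * evN w := by
  unfold evN
  rw [List.map_append, List.prod_append]

theorem pi_ev_eq {v w : List (Fin 18)} (h : evC v = evC w) : pi (evN v) = pi (evN w) :=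
  pi_congr ((rp_ev v).unique (h ▸ rp_ev w))

theorem pi_tab {x : NN} {cs : List ℕ} (h : Rp cs (rho x)) (h8 : fld 6 (cs.getD 8 0) 8 = 1) (p : Fin 6561) :
    (pi x p : ℕ) = lk 13 (tab cs) p := by
  have h1 : rho x 8 8 = 1 := by
    rw [← h.2.2 8 8]
    show ((fld 6 (cs.getD 8 0) 8 : ℕ) : ZMod 3) = 1
    rw [h8, Nat.cast_one]
  rw [lk_tab h p.2]
  show cd (act _ _) = _
  unfold act
  rw [h1, one_smul]
  rfl

theorem yy_mem : yy ∈ NN := le_normalizer (mem_zpowers yy)

/-- the element `w * y ^ j` -/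
noncomputable def el (w : List (Fin 18)) (j : ℕ) : NN := evN w * ⟨yy, yy_mem⟩ ^ j

theorem g_el (w : List (Fin 18)) (j : ℕ) : g (flat w ++ H819.U33.pw wy1 j) = el w j := by
  rw [g_append, g_flat, H819.U33.g_pw]
  rfl

theorem rho_el (w : List (Fin 18)) (j : ℕ) : rho (el w j) = rho (evN w) := by
  unfold el
  rw [map_mul, map_pow, (rho_ker ⟨yy, yy_mem⟩).2 (mem_zpowers yy), one_pow, mul_one]

theorem cent_le_NN {x : G} {k : ℕ} (h : x ^ k = yy ∨ x ^ k = yy⁻¹) : centralizer ({x} : Set G) ≤ NN := by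
  intro a ha
  have h1 : Commute a x := mem_centralizer_singleton_iff.1 ha
  have h2 : Commute a yy := by
    rcases h with h | h
    · rw [← h]; exact h1.pow_right k
    · rw [← inv_inv yy, ← h]; exact (h1.pow_right k).inv_right
  refine centralizer_le_normalizer _ (mem_centralizer_iff.2 fun b hb => ?_)
  obtain ⟨n, rfl⟩ := hb
  exact (h2.zpow_right n).symm

theorem card_D {w : List (Fin 18)} {j : ℕ} {cs : List ℕ} (hc : evC w = cs) (h8 : fld 6 (cs.getD 8 0) 8 = 1)
    {l : List (Bool × ℕ)} {L : List H123.Cls.Ins} {c : ℕ} (hb : chkB 6561 13 row 13 (tab cs) l L c = true) :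
    Nat.card ((centralizer ({pi (el w j)} : Set (Perm (Fin 6561)))).comap pi) ≤ 3 * (c + 1) := by
  have := finG
  refine card_comap_le pi card_ker _ fun H h1 h2 => ?_
  refine card_le_bound (K := 13) (by norm_num) (pi_tab (x := el w j) (by rw [rho_el, ← hc]; exact rp_ev w) h8) hb
    (fun σ hσ => ?_) fun σ hσ i => ?_
  · obtain ⟨s, rfl⟩ := h1 hσ
    exact pi_aut s
  · exact congrArg (fun τ : Perm (Fin 6561) => τ i) (h2 σ hσ)

theorem mem_D {w s : List (Fin 18)} (j : ℕ) (hs : evC (s ++ w) = evC (w ++ s)) :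
    evN s ∈ (centralizer ({pi (el w j)} : Set (Perm (Fin 6561)))).comap pi := by
  rw [mem_comap, mem_centralizer_singleton_iff, pi_congr (rho_el w j), ← map_mul, ← map_mul, ← evN_append,
    ← evN_append]
  exact pi_ev_eq hs

/-- **index at least two** -/
theorem cent_two {x : G} {w s : List (Fin 18)} {j k : ℕ} {cs : List ℕ} (hx : x = el w j)
    (hy : x ^ k = yy ∨ x ^ k = yy⁻¹) (hc : evC w = cs) (h8 : fld 6 (cs.getD 8 0) 8 = 1)
    {l : List (Bool × ℕ)} {L : List H123.Cls.Ins} {c : ℕ} (hb : chkB 6561 13 row 13 (tab cs) l L c = true)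
    (hs : evC (s ++ w) = evC (w ++ s)) (h1 : g (flat s) * x ≠ x * g (flat s)) :
    2 * Nat.card (centralizer ({x} : Set G)) ≤ 3 * (c + 1) := by
  have := finG
  subst hx
  rw [card_cent_sub _ (cent_le_NN hy)]
  refine (two_mul_card_le (cent_le_comap pi _) (mem_D j hs) fun h2 => h1 ?_).trans (card_D hc h8 hb)
  rw [g_flat]
  exact congrArg Subtype.val (mem_centralizer_singleton_iff.1 h2)

/-- **index at least three** -/
theorem cent_three {x : G} {w s : List (Fin 18)} {j k : ℕ} {cs : List ℕ} (hx : x = el w j)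
    (hy : x ^ k = yy ∨ x ^ k = yy⁻¹) (hc : evC w = cs) (h8 : fld 6 (cs.getD 8 0) 8 = 1)
    {l : List (Bool × ℕ)} {L : List H123.Cls.Ins} {c : ℕ} (hb : chkB 6561 13 row 13 (tab cs) l L c = true)
    (hs : evC (s ++ w) = evC (w ++ s)) (h1 : g (flat s) * x ≠ x * g (flat s))
    (h2 : g (flat s) * g (flat s) * x ≠ x * (g (flat s) * g (flat s))) :
    Nat.card (centralizer ({x} : Set G)) ≤ c + 1 := by
  have := finG
  subst hx
  rw [card_cent_sub _ (cent_le_NN hy)]
  refine Nat.le_of_mul_le_mul_left ((three_mul_card_le (cent_le_comap pi _) (mem_D j hs) (fun h3 => h1 ?_)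
    fun h3 => h2 ?_).trans (card_D hc h8 hb)) (by norm_num)
  · rw [g_flat]
    exact congrArg Subtype.val (mem_centralizer_singleton_iff.1 h3)
  · rw [g_flat]
    exact congrArg Subtype.val (mem_centralizer_singleton_iff.1 h3)

end Cfsg.Agent.TAB.B.C3
end
end
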